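import Cfsg.Agent.TwoFusion.ClosedZ_m3
import Cfsg.Agent.SignalizersComponents.Components
import Cfsg.Prelude.Def_Balance
import Cfsg.Agent.S1251
import Cfsg.Agent.S0205
import Cfsg.Agent.SignalizersComponents.SolFunctorTwo
import Cfsg.Agent.S1330
import Cfsg.Agent.StdAlt.First
import Cfsg.Prelude.Def_CaseTheorems
import Cfsg.Agent.FastGrp
import Cfsg.Agent.Prune
set_option linter.all false

section
prune_inst 0x7ffdfefbbffdfddfffff7e7fffffdffffdfffffffffffffbffedffffffff6beffbf5fbefffffdaffeff6f2b6b2f87bd3fdffceffedfbdd7ffffd5ff47fffff9fffffbfad51dfb8be1ffc7ffffbf97fee7f3fffffffffffffffffffffffffffffffffffffffff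

-- part: TwoFusion/ClosedFunctor
section
prune_inst 0x400000000000001800000000000000000000000000012000000008400040a040000000500100101080d02002000000000020002800000000080000000000000022c000740c00300000006801180c00000000000000000000000000000000000000000
set_option linter.all false
open scoped Cfsg.Agent.FastGrp

/-!
# Goldschmidt's signalizer functor for two disjoint closed families

`Wab a b = T(a; b) T(b; a) [O_{ab}, b]` is, for commuting involutions `a ∈ 𝒜`, `b ∈ ℬ`, the closure of the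
core-separated signalizer functor of any four-groups `E ∋ a`, `F ∋ b` of the two families; so it depends only on
`a` and `b`, and it does not change when `a` (or `b`) is replaced by a commuting involution.
-/

set_option autoImplicit false
set_option linter.style.haveILetI false
set_option maxHeartbeats 400000

namespace Cfsg.Agent.TwoFusion.ClosedFunctor

open Subgroup
open scoped commutatorElement
open Cfsg.Agent.TwoFusion.ClosedFam Cfsg.Agent.TwoFusion.ClosedSimple Cfsg.Agent.TwoFusion.ClosedMin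
open Cfsg.Agent.TwoFusion.ClosedFour
open Cfsg.Agent.Lib.CoprimeCommutator
open Cfsg.Agent.SignalizersComponents.Components

variable {G : Type*} [Group G]

/-! ### Products of commuting four-groups -/

theorem mem_sup_of_comm {E F : Subgroup G} (hEF : ∀ x ∈ E, ∀ y ∈ F, x * y = y * x) {g : G} :
    g ∈ E ⊔ F ↔ ∃ x ∈ E, ∃ y ∈ F, g = x * y := by
  constructor
  · intro hg
    have hn : E ≤ normalizer (F : Set G) := by
      refine le_normalizer_of_conj fun x hx y hy => ?_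
      rw [hEF x hx y hy]
      simpa using hy
    refine closure_induction (p := fun g _ => ∃ x ∈ E, ∃ y ∈ F, g = x * y) ?_ ?_ ?_ ?_
      (show g ∈ closure ((E : Set G) ∪ F) by rwa [Subgroup.closure_union, closure_eq, closure_eq])
    · rintro x (hx | hx)
      · exact ⟨x, hx, 1, one_mem F, by rw [mul_one]⟩
      · exact ⟨1, one_mem E, x, hx, by rw [one_mul]⟩
    · exact ⟨1, one_mem E, 1, one_mem F, by rw [mul_one]⟩
    · rintro _ _ _ _ ⟨x, hx, y, hy, rfl⟩ ⟨x', hx', y', hy', rfl⟩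
      refine ⟨x * x', mul_mem hx hx', y * y', mul_mem hy hy', ?_⟩
      have := hEF x' hx' y hy
      calc x * y * (x' * y') = x * (y * x') * y' := by group
        _ = x * (x' * y) * y' := by rw [this]
        _ = x * x' * (y * y') := by group
    · rintro _ _ ⟨x, hx, y, hy, rfl⟩
      refine ⟨x⁻¹, inv_mem hx, y⁻¹, inv_mem hy, ?_⟩
      rw [mul_inv_rev, hEF x⁻¹ (inv_mem hx) y⁻¹ (inv_mem hy)]
  · rintro ⟨x, hx, y, hy, rfl⟩
    exact mul_mem (mem_sup_left hx) (mem_sup_right hy)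

theorem isPGroup_sup {𝒜 ℬ : Set G} {E F : Subgroup G} (hE : Four 𝒜 E) (hF : Four ℬ F)
    (hEF : ∀ x ∈ E, ∀ y ∈ F, x * y = y * x) : IsPGroup 2 (E ⊔ F : Subgroup G) := by
  rintro ⟨g, hg⟩
  refine ⟨1, Subtype.ext ?_⟩
  obtain ⟨x, hx, y, hy, rfl⟩ := (mem_sup_of_comm hEF).1 hg
  change (x * y) ^ 2 ^ 1 = 1
  rw [pow_one, pow_two]
  calc x * y * (x * y) = x * (y * x) * y := by group
    _ = x * (x * y) * y := by rw [hEF x hx y hy]
    _ = (x * x) * (y * y) := by group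
    _ = 1 := by rw [hE.sq x hx, hF.sq y hy, one_mul]

theorem comm_sup {𝒜 ℬ : Set G} {E F : Subgroup G} (hE : Four 𝒜 E) (hF : Four ℬ F)
    (hEF : ∀ x ∈ E, ∀ y ∈ F, x * y = y * x) : ∀ a ∈ E ⊔ F, ∀ b ∈ E ⊔ F, a * b = b * a := by
  intro a ha b hb
  obtain ⟨x, hx, y, hy, rfl⟩ := (mem_sup_of_comm hEF).1 ha
  obtain ⟨x', hx', y', hy', rfl⟩ := (mem_sup_of_comm hEF).1 hb
  have e1 := hEF x' hx' y hy
  have e2 := hEF x hx y' hy'
  have e3 := hE.comm x hx x' hx'
  have e4 := hF.comm y hy y' hy'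
  calc x * y * (x' * y') = x * (y * x') * y' := by group
    _ = (x * x') * (y * y') := by rw [← e1]; group
    _ = (x' * x) * (y' * y) := by rw [e3, e4]
    _ = x' * (x * y') * y := by group
    _ = x' * y' * (x * y) := by rw [e2]; group

/-! ### Core separation -/

/-- If `K₁ ⊴ X` and `K₂` commute modulo the core, then every 2-component commutes with one of them modulo the
core. -/
theorem component_alternative {X : Type*} [Group X] [Finite X] (K₁ K₂ : Subgroup X) (hK₁ : K₁.Normal)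
    (hK : ⁅K₁, K₂⁆ ≤ Cfsg.pPrimeCore 2 X) (L : Subgroup X) (hL : Cfsg.IsPComponent 2 L) :
    ⁅L, K₁⁆ ≤ Cfsg.pPrimeCore 2 X ∨ ⁅L, K₂⁆ ≤ Cfsg.pPrimeCore 2 X := by
  have hlift : ∀ H K : Subgroup X, ⁅H.map (QuotientGroup.mk' (Cfsg.pPrimeCore 2 X)),
      K.map (QuotientGroup.mk' (Cfsg.pPrimeCore 2 X))⁆ = ⊥ ↔ ⁅H, K⁆ ≤ Cfsg.pPrimeCore 2 X := by
    intro H K
    rw [← Subgroup.map_commutator, Subgroup.map_eq_bot_iff, QuotientGroup.ker_mk']
  have hK1 : (K₁.map (QuotientGroup.mk' (Cfsg.pPrimeCore 2 X))).Normal :=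
    hK₁.map _ (QuotientGroup.mk'_surjective _)
  rcases component_le_or_commutator_eq_bot_of_le_normalizer hL.2.1
      (show L.map (QuotientGroup.mk' (Cfsg.pPrimeCore 2 X)) ≤
        normalizer ((K₁.map (QuotientGroup.mk' (Cfsg.pPrimeCore 2 X)) : Subgroup _) : Set _) by
        rw [normalizer_eq_top_iff.2 hK1]; exact le_top) with hle | hbot
  · right
    rw [← hlift, eq_bot_iff]
    refine (commutator_mono hle le_rfl).trans ?_
    rw [(hlift K₁ K₂).2 hK]
  · left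
    exact (hlift L K₁).1 hbot

/-- The same with subgroups `E ≤ ⟨𝒜 ∩ C⟩`, `F ≤ ⟨ℬ ∩ C⟩` of `G`. -/
theorem component_alternative' [Finite G] {𝒜 ℬ : Set G} (h𝒜 : IsClosedFam 𝒜) (C : Subgroup G)
    (hind : ⁅fam 𝒜 C, fam ℬ C⁆ ≤ core C) {E F : Subgroup G} (hE : E ≤ fam 𝒜 C) (hF : F ≤ fam ℬ C)
    (L : Subgroup C) (hL : Cfsg.IsPComponent 2 L) :
    ⁅L.map C.subtype, E⁆ ≤ core C ∨ ⁅L.map C.subtype, F⁆ ≤ core C := by
  have h1 : ⁅fam {x : C | (x : G) ∈ 𝒜} ⊤, fam {x : C | (x : G) ∈ ℬ} ⊤⁆ ≤ Cfsg.pPrimeCore 2 ↥C := by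
    have h2 : (⁅fam {x : C | (x : G) ∈ 𝒜} ⊤, fam {x : C | (x : G) ∈ ℬ} ⊤⁆).map C.subtype ≤
        (Cfsg.pPrimeCore 2 ↥C).map C.subtype := by
      rw [Subgroup.map_commutator, map_fam_restrict_top, map_fam_restrict_top]
      exact hind
    exact (map_le_map_iff_of_injective C.subtype_injective).1 h2
  have hn : (fam {x : C | (x : G) ∈ 𝒜} (⊤ : Subgroup C)).Normal := (h𝒜.restrict C).fam_normal ⊤
  rcases component_alternative _ _ hn h1 L hL with h2 | h2
  · left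
    have h3 := map_mono (f := C.subtype) h2
    rw [Subgroup.map_commutator, map_fam_restrict_top] at h3
    exact (commutator_mono le_rfl hE).trans h3
  · right
    have h3 := map_mono (f := C.subtype) h2
    rw [Subgroup.map_commutator, map_fam_restrict_top] at h3
    exact (commutator_mono le_rfl hF).trans h3

theorem isCoreSeparated [Finite G] {𝒜 ℬ : Set G} (h : Min 𝒜 ℬ) {E F : Subgroup G} (hE : Four 𝒜 E)
    (hF : Four ℬ F) (hEF : ∀ x ∈ E, ∀ y ∈ F, x * y = y * x) : Cfsg.IsCoreSeparated E F := by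
  classical
  have hinf : E ⊓ F = ⊥ := by
    rw [eq_bot_iff]
    intro x hx
    rw [mem_bot]
    exact h.disj x (hE.sub x hx.1) (hF.sub x hx.2)
  refine ⟨hE.isElementaryAbelian, hF.isElementaryAbelian, hE.card, hF.card, ?_, hinf, hEF, ?_⟩
  · intro e
    rw [e, inf_idem] at hinf
    have h1 := hF.card
    rw [hinf, card_bot] at h1
    omega
  intro a ha ha1 L hL
  obtain ⟨x, hx, y, hy, hxy⟩ := (mem_sup_of_comm hEF).1 ha
  have hQ := isPGroup_sup hE hF hEF
  have hCtop : centralizer ({a} : Set G) ≠ ⊤ := by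
    by_cases hx1 : x = 1
    · have hy1 : y ≠ 1 := by
        intro e
        apply ha1
        rw [hxy, hx1, e, mul_one]
      have e : a = y * x := by rw [hxy]; exact hEF x hx y hy
      rw [e]
      exact centralizer_mul_ne_top (min_symm h) (hF.sub y hy) (hE.sub x hx) (hF.orderOf_eq hy hy1) hQ
        (mem_sup_right hy) (mem_sup_left hx)
    · rw [hxy]
      exact centralizer_mul_ne_top h (hE.sub x hx) (hF.sub y hy) (hE.orderOf_eq hx hx1) hQ
        (mem_sup_left hx) (mem_sup_right hy)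
  have hcomm := comm_sup hE hF hEF
  have hECa : E ≤ fam 𝒜 (centralizer ({a} : Set G)) := fun g hg =>
    mem_fam (hE.sub g hg) (mem_centralizer_singleton.2 (hcomm g (mem_sup_left hg) a ha))
  have hFCa : F ≤ fam ℬ (centralizer ({a} : Set G)) := fun g hg =>
    mem_fam (hF.sub g hg) (mem_centralizer_singleton.2 (hcomm g (mem_sup_right hg) a ha))
  exact component_alternative' h.left _ (h.ind _ hCtop) hECa hFCa L hL

/-! ### The functor -/

/-- the signalizer functor of S1330 -/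
def theta (E F : Subgroup G) (a : G) : Subgroup G :=
  (⁅Oc a, E⁆ ⊔ (Oc a ⊓ core (centralizer (E : Set G)))) ⊓
    (⁅Oc a, F⁆ ⊔ (Oc a ⊓ core (centralizer (F : Set G))))

/-- its closure -/
def Vc (E F : Subgroup G) : Subgroup G := ⨆ a : {a : G // a ∈ E ⊔ F ∧ a ≠ 1}, theta E F a

/-- The input: the functor is complete (S1330, S0205, S0217). -/
def Complete (G : Type*) [Group G] : Prop :=
  ∀ E F : Subgroup G, Cfsg.IsCoreSeparated E F →
    Odd (Nat.card (Vc E F)) ∧ (∀ a ∈ E ⊔ F, a ≠ 1 → Vc E F ⊓ centralizer ({a} : Set G) = theta E F a) ∧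
      E ⊔ F ≤ normalizer (Vc E F : Set G)

theorem theta_comm (E F : Subgroup G) (a : G) : theta E F a = theta F E a := inf_comm _ _

theorem Vc_comm (E F : Subgroup G) : Vc E F = Vc F E := by
  unfold Vc
  rw [sup_comm]
  simp only [theta_comm E F]

/-- `T(a; b) T(b; a) [O_{ab}, b]` -/
def Wab (a b : G) : Subgroup G := T a b ⊔ T b a ⊔ ⁅Oc (a * b), zpowers b⁆

theorem map_Wab [Finite G] (g a b : G) :
    (Wab a b).map (MulAut.conj g).toMonoidHom = Wab (g * a * g⁻¹) (g * b * g⁻¹) := by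
  unfold Wab
  have e : g * (a * b) * g⁻¹ = g * a * g⁻¹ * (g * b * g⁻¹) := by group
  rw [Subgroup.map_sup, Subgroup.map_sup, map_T, map_T, map_commutator, map_Oc, map_zpowers_conj, e]

/-- The data of two commuting four-groups in the two families. -/
structure Fours (𝒜 ℬ : Set G) (E F : Subgroup G) : Prop where
  left : Four 𝒜 E
  right : Four ℬ F
  comm : ∀ x ∈ E, ∀ y ∈ F, x * y = y * x

namespace Fours

variable {𝒜 ℬ : Set G} {E F : Subgroup G}

theorem symm (hEF : Fours 𝒜 ℬ E F) : Fours ℬ 𝒜 F E :=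
  ⟨hEF.right, hEF.left, fun x hx y hy => (hEF.comm y hy x hx).symm⟩

theorem Oc_inf_centralizer_le [Finite G] {x : G} (hx : x ∈ E) :
    Oc x ⊓ centralizer (E : Set G) ≤ core (centralizer (E : Set G)) := by
  refine le_core inf_le_right (Odd.of_dvd_nat (Oc_odd x) (card_dvd_of_le inf_le_left)) ?_
  refine le_normalizer_inf (le_trans ?_ (le_normalizer_Oc x)) le_normalizer
  exact centralizer_le (Set.singleton_subset_iff.2 hx)

theorem le_normalizer_Oc' {H : Subgroup G} {x : G} (h : ∀ g ∈ H, g * x = x * g) :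
    H ≤ normalizer (Oc x : Set G) := fun _ hg =>
  le_normalizer_Oc x (mem_centralizer_singleton.2 (h _ hg))

/-- for `x ∈ E` the first factor of `theta` is the whole core `O_x` -/
theorem Oc_le_left [Finite G] (hE : Four 𝒜 E) {x : G} (hx : x ∈ E) :
    Oc x ≤ ⁅Oc x, E⁆ ⊔ (Oc x ⊓ core (centralizer (E : Set G))) := by
  refine (le_commutator_sup hE.isPGroup (Oc_odd x) (le_normalizer_Oc' fun g hg => hE.comm g hg x hx)).trans ?_
  exact sup_le_sup le_rfl (le_inf inf_le_left (Oc_inf_centralizer_le hx))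

theorem theta_eq [Finite G] (hEF : Fours 𝒜 ℬ E F) {x : G} (hx : x ∈ E) :
    theta E F x = ⁅Oc x, F⁆ ⊔ (Oc x ⊓ core (centralizer (F : Set G))) := by
  unfold theta
  apply inf_eq_right.2
  refine le_trans ?_ (Oc_le_left hEF.left hx)
  refine sup_le (commutator_le_left ?_) inf_le_left
  exact le_normalizer_Oc' fun g hg => (hEF.comm x hx g hg).symm

theorem zpowers_eq_of_sq {y : G} (hy : y * y = 1) {g : G} (hg : g ∈ zpowers y) : g = 1 ∨ g = y := by
  obtain ⟨n, rfl⟩ := mem_zpowers_iff.1 hg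
  rcases Int.even_or_odd n with ⟨m, rfl⟩ | ⟨m, rfl⟩
  · left
    rw [← two_mul, zpow_mul]
    have : y ^ (2 : ℤ) = 1 := by rw [zpow_ofNat, pow_two]; exact hy
    rw [this, one_zpow]
  · right
    rw [zpow_add, zpow_mul, zpow_one]
    have : y ^ (2 : ℤ) = 1 := by rw [zpow_ofNat, pow_two]; exact hy
    rw [this, one_zpow, one_mul]

theorem isPGroup_zpowers_of_sq {y : G} (hy : y * y = 1) : IsPGroup 2 (zpowers y) := by
  rintro ⟨g, hg⟩
  refine ⟨1, Subtype.ext ?_⟩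
  change g ^ 2 ^ 1 = 1
  rcases zpowers_eq_of_sq hy hg with rfl | rfl
  · exact one_pow _
  · rw [pow_one, pow_two, hy]

theorem centralizer_zpowers (y : G) : centralizer (zpowers y : Set G) = centralizer ({y} : Set G) := by
  rw [zpowers_eq_closure, centralizer_closure]

section

variable [Finite G] (h : Min 𝒜 ℬ) (hC : Complete G) (hEF : Fours 𝒜 ℬ E F)
include h hC hEF

theorem vc_odd : Odd (Nat.card (Vc E F)) := (hC E F (isCoreSeparated h hEF.left hEF.right hEF.comm)).1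

theorem vc_inf {a : G} (ha : a ∈ E ⊔ F) (ha1 : a ≠ 1) :
    Vc E F ⊓ centralizer ({a} : Set G) = theta E F a :=
  (hC E F (isCoreSeparated h hEF.left hEF.right hEF.comm)).2.1 a ha ha1

theorem le_normalizer_vc : E ⊔ F ≤ normalizer (Vc E F : Set G) :=
  (hC E F (isCoreSeparated h hEF.left hEF.right hEF.comm)).2.2

theorem theta_le_vc {a : G} (ha : a ∈ E ⊔ F) (ha1 : a ≠ 1) : theta E F a ≤ Vc E F := by
  rw [← vc_inf h hC hEF ha ha1]
  exact inf_le_left

theorem le_normalizer_theta {a : G} (ha : a ∈ E ⊔ F) (ha1 : a ≠ 1) :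
    E ⊔ F ≤ normalizer (theta E F a : Set G) := by
  rw [← vc_inf h hC hEF ha ha1]
  refine le_normalizer_inf (le_normalizer_vc h hC hEF) ?_
  refine (show E ⊔ F ≤ centralizer ({a} : Set G) from fun g hg => ?_).trans le_normalizer
  exact mem_centralizer_singleton.2 (comm_sup hEF.left hEF.right hEF.comm g hg a ha)

/-- `C_W(x)`, for `x ∈ E`, is `T(x; y)` for every `y ∈ F`. -/
theorem theta_eq_T {x y : G} (hx : x ∈ E) (hx1 : x ≠ 1) (hy : y ∈ F) (hy1 : y ≠ 1) :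
    theta E F x = T x y := by
  have hth := theta_eq hEF hx
  have hFx : F ≤ normalizer (Oc x : Set G) := le_normalizer_Oc' fun g hg => (hEF.comm x hx g hg).symm
  have hFy : F ≤ normalizer (Oc y : Set G) := le_normalizer_Oc' fun g hg => hEF.right.comm g hg y hy
  have hle : theta E F x ≤ Oc x := by
    rw [hth]
    exact sup_le (commutator_le_left hFx) inf_le_left
  -- `O_x ∩ O_y ≤ θ(x)`
  have h2 : Oc x ⊓ Oc y ≤ theta E F x := by
    rw [hth]
    refine (le_commutator_sup hEF.right.isPGroup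
      (Odd.of_dvd_nat (Oc_odd x) (card_dvd_of_le inf_le_left)) (le_normalizer_inf hFx hFy)).trans ?_
    refine sup_le_sup (commutator_mono inf_le_left le_rfl) (le_inf (inf_le_left.trans inf_le_left) ?_)
    refine le_trans ?_ (Oc_inf_centralizer_le (E := F) hy)
    exact le_inf (inf_le_left.trans inf_le_right) inf_le_right
  have hyF : zpowers y ≤ F := by rw [zpowers_le]; exact hy
  have hxs : x ∈ E ⊔ F := mem_sup_left hx
  have hys : y ∈ E ⊔ F := mem_sup_right hy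
  apply le_antisymm
  · have h3 : theta E F x ⊓ centralizer ({y} : Set G) ≤ Oc x ⊓ Oc y := by
      refine le_inf (inf_le_left.trans hle) ?_
      have h4 : theta E F x ⊓ centralizer ({y} : Set G) ≤ theta E F y := by
        rw [← vc_inf h hC hEF hys hy1]
        exact inf_le_inf (theta_le_vc h hC hEF hxs hx1) le_rfl
      refine h4.trans ?_
      rw [theta_comm, theta_eq hEF.symm hy]
      refine sup_le (commutator_le_left ?_) inf_le_left
      exact le_normalizer_Oc' fun g hg => hEF.comm g hg y hy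
    refine (le_commutator_sup (isPGroup_zpowers_of_sq (hEF.right.sq y hy))
      (Odd.of_dvd_nat (Oc_odd x) (card_dvd_of_le hle))
      ((hyF.trans le_sup_right).trans (le_normalizer_theta h hC hEF hxs hx1))).trans ?_
    rw [centralizer_zpowers]
    exact sup_le_sup (commutator_mono hle le_rfl) h3
  · refine sup_le ?_ h2
    rw [hth]
    exact (commutator_mono le_rfl hyF).trans le_sup_left

theorem vc_inf_centralizer_left {x y : G} (hx : x ∈ E) (hx1 : x ≠ 1) (hy : y ∈ F) (hy1 : y ≠ 1) :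
    Vc E F ⊓ centralizer ({x} : Set G) = T x y := by
  rw [vc_inf h hC hEF (mem_sup_left hx) hx1, theta_eq_T h hC hEF hx hx1 hy hy1]

end

section

variable [Finite G] (h : Min 𝒜 ℬ) (hC : Complete G) (hEF : Fours 𝒜 ℬ E F)
include h hC hEF

theorem vc_inf_centralizer_right {x y : G} (hx : x ∈ E) (hx1 : x ≠ 1) (hy : y ∈ F) (hy1 : y ≠ 1) :
    Vc E F ⊓ centralizer ({y} : Set G) = T y x := by
  rw [Vc_comm]
  exact vc_inf_centralizer_left (min_symm h) hC hEF.symm hy hy1 hx hx1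

omit [Finite G] hC in
theorem mul_ne_one {x y : G} (hx : x ∈ E) (hx1 : x ≠ 1) (hy : y ∈ F) : x * y ≠ 1 := by
  intro e
  apply hx1
  have : x = y⁻¹ := eq_inv_of_mul_eq_one_left e
  exact h.disj x (hEF.left.sub x hx) (by rw [this]; exact hEF.right.sub _ (inv_mem hy))

/-- `[O_{xy}, y] ≤ W` -/
theorem commutator_le_vc {x y : G} (hx : x ∈ E) (hx1 : x ≠ 1) (hy : y ∈ F) :
    ⁅Oc (x * y), zpowers y⁆ ≤ Vc E F := by
  have hz : x * y ∈ E ⊔ F := mul_mem (mem_sup_left hx) (mem_sup_right hy)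
  refine le_trans ?_ (theta_le_vc h hC hEF hz (mul_ne_one h hEF hx hx1 hy))
  rw [Subgroup.commutator_le]
  intro v hv w hw
  rcases zpowers_eq_of_sq (hEF.right.sq y hy) hw with rfl | rfl
  · rw [commutatorElement_one_right]; exact one_mem _
  have hvz : v * (x * w) = (x * w) * v := mem_centralizer_singleton.1 (Oc_le _ hv)
  have hww : w * w = 1 := hEF.right.sq w hy
  have hxx : x * x = 1 := hEF.left.sq x hx
  have hwi : w⁻¹ = w := inv_eq_of_mul_eq_one_right hww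
  have hxi : x⁻¹ = x := inv_eq_of_mul_eq_one_right hxx
  have hxw : x * w = w * x := hEF.comm x hx w hy
  have e : ⁅v, w⁆ = ⁅v, x⁆ := by
    have key : ∀ z : G, w = z * x → v * z = z * v → z * x = x * z →
        v * w * v⁻¹ * w⁻¹ = v * x * v⁻¹ * x⁻¹ := by
      intro z hz1 hz2 hz3
      have c1 : Commute z v := hz2.symm
      have c2 : Commute z x := hz3
      have c3 : Commute z (v * x * v⁻¹ * x⁻¹) :=
        ((c1.mul_right c2).mul_right c1.inv_right).mul_right c2.inv_right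
      calc v * w * v⁻¹ * w⁻¹ = (v * z) * x * v⁻¹ * x⁻¹ * z⁻¹ := by rw [hz1]; group
        _ = z * (v * x * v⁻¹ * x⁻¹) * z⁻¹ := by rw [hz2]; group
        _ = v * x * v⁻¹ * x⁻¹ := by rw [c3.eq]; group
    rw [commutatorElement_def, commutatorElement_def]
    refine key (x * w) ?_ hvz ?_
    · rw [hxw, mul_assoc, hxx, mul_one]
    · calc x * w * x = x * (w * x) := by group
        _ = x * (x * w) := by rw [hxw]
  refine mem_inf.2 ⟨mem_sup_left ?_, mem_sup_left ?_⟩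
  · rw [e]; exact commutator_mem_commutator hv hx
  · exact commutator_mem_commutator hv hy

/-- The closure of the functor depends only on two involutions. -/
theorem vc_eq_Wab {x y : G} (hx : x ∈ E) (hx1 : x ≠ 1) (hy : y ∈ F) (hy1 : y ≠ 1) :
    Vc E F = Wab x y := by
  have hxs : x ∈ E ⊔ F := mem_sup_left hx
  have hys : y ∈ E ⊔ F := mem_sup_right hy
  have hz : x * y ∈ E ⊔ F := mul_mem hxs hys
  have hz1 := mul_ne_one h hEF hx hx1 hy
  have hn := le_normalizer_vc h hC hEF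
  apply le_antisymm
  · refine Cfsg.Agent.Lib.KleinGen.le_of_klein (Vc E F) _ (vc_odd h hC hEF) x y (hEF.left.sq x hx)
      (hEF.right.sq y hy) (hEF.comm x hx y hy) (fun g hg => conj_mem_of_le_normalizer hn hxs hg)
      (fun g hg => conj_mem_of_le_normalizer hn hys hg) ?_ ?_ ?_
    · rw [vc_inf_centralizer_left h hC hEF hx hx1 hy hy1]
      exact le_sup_left.trans le_sup_left
    · rw [vc_inf_centralizer_right h hC hEF hx hx1 hy hy1]
      exact le_sup_right.trans le_sup_left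
    · rw [vc_inf h hC hEF hz hz1]
      have hth : theta E F (x * y) ≤ Oc (x * y) := by
        refine inf_le_left.trans (sup_le (commutator_le_left ?_) inf_le_left)
        exact le_normalizer_Oc' fun g hg =>
          comm_sup hEF.left hEF.right hEF.comm g (mem_sup_left hg) _ hz
      refine (le_commutator_sup (isPGroup_zpowers_of_sq (hEF.right.sq y hy))
        (Odd.of_dvd_nat (Oc_odd _) (card_dvd_of_le hth)) ?_).trans ?_
      · refine le_trans ?_ (le_normalizer_theta h hC hEF hz hz1)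
        rw [zpowers_le]; exact hys
      · refine sup_le ((commutator_mono hth le_rfl).trans le_sup_right) ?_
        rw [centralizer_zpowers]
        refine le_trans ?_ (le_sup_right.trans le_sup_left : T y x ≤ Wab x y)
        rw [← vc_inf_centralizer_right h hC hEF hx hx1 hy hy1]
        exact inf_le_inf (theta_le_vc h hC hEF hz hz1) le_rfl
  · refine sup_le (sup_le ?_ ?_) (commutator_le_vc h hC hEF hx hx1 hy)
    · rw [← vc_inf_centralizer_left h hC hEF hx hx1 hy hy1]; exact inf_le_left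
    · rw [← vc_inf_centralizer_right h hC hEF hx hx1 hy hy1]; exact inf_le_left

end

end Fours

/-! ### The main statement -/

section Main

variable [Finite G] {𝒜 ℬ : Set G} (h : Min 𝒜 ℬ) (hC : Complete G)
include h hC

omit [Finite G] h hC in
/-- pairwise commuting involutions lie in a common 2-subgroup -/
theorem isPGroup_closure_of_comm (S : Set G) (hS : ∀ x ∈ S, x * x = 1) (hc : ∀ x ∈ S, ∀ y ∈ S, x * y = y * x) :
    IsPGroup 2 (closure S) := by
  have hcomm : ∀ x ∈ closure S, ∀ y ∈ closure S, x * y = y * x := by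
    have h1 : S ⊆ centralizer (closure S : Set G) := by
      intro x hx
      rw [SetLike.mem_coe, centralizer_closure, mem_centralizer_iff]
      exact fun y hy => hc y hy x hx
    intro x hx y hy
    have h2 : closure S ≤ centralizer (closure S : Set G) := (closure_le _).2 h1
    exact mem_centralizer_iff.1 (h2 hy) x hx
  rintro ⟨x, hx⟩
  refine ⟨1, Subtype.ext ?_⟩
  change x ^ 2 ^ 1 = 1
  rw [pow_one, pow_two]
  induction hx using closure_induction with
  | mem y hy => exact hS y hy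
  | one => exact one_mul 1
  | mul a b ha hb iha ihb =>
    calc a * b * (a * b) = a * (b * a) * b := by group
      _ = a * (a * b) * b := by rw [hcomm b hb a ha]
      _ = (a * a) * (b * b) := by group
      _ = 1 := by rw [iha, ihb, one_mul]
  | inv a ha iha => rw [← mul_inv_rev, iha, inv_one]

omit hC in
theorem exists_fours {a₁ a b : G} (ha : a ∈ 𝒜) (ha₁ : a₁ ∈ 𝒜) (hb : b ∈ ℬ) (ha2 : orderOf a = 2)
    (ha₁2 : orderOf a₁ = 2) (hb2 : orderOf b = 2) (haa : a * a₁ = a₁ * a) (hab : a * b = b * a)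
    (hab₁ : a₁ * b = b * a₁) : ∃ E F, Fours 𝒜 ℬ E F ∧ a ∈ E ∧ a₁ ∈ E ∧ b ∈ F := by
  have hQ : IsPGroup 2 (closure ({a, a₁, b} : Set G)) := by
    refine isPGroup_closure_of_comm _ ?_ ?_
    · rintro x (rfl | rfl | rfl)
      · exact mul_self_of_orderOf ha2
      · exact mul_self_of_orderOf ha₁2
      · exact mul_self_of_orderOf hb2
    · rintro x (rfl | rfl | rfl) y (rfl | rfl | rfl) <;> first | rfl | assumption | (symm; assumption)
  obtain ⟨P, hP⟩ := hQ.exists_le_sylow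
  have haP : a ∈ (P : Subgroup G) := hP (subset_closure (by simp))
  have ha₁P : a₁ ∈ (P : Subgroup G) := hP (subset_closure (by simp))
  have hbP : b ∈ (P : Subgroup G) := hP (subset_closure (by simp))
  obtain ⟨F, hF, hbF, hFP⟩ := exists_four_mem (min_symm h) P ⟨hb, hbP, hb2⟩
  have hE : ∃ E, Four 𝒜 E ∧ a ∈ E ∧ a₁ ∈ E ∧ E ≤ (P : Subgroup G) := by
    by_cases hne : a = a₁
    · subst hne
      obtain ⟨E, hE, haE, hEP⟩ := exists_four_mem h P ⟨ha, haP, ha2⟩
      exact ⟨E, hE, haE, haE, hEP⟩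
    · obtain ⟨E, hE, haE, ha₁E, hEQ⟩ := exists_four h.left ha ha₁ ha2 ha₁2 hne haa
      exact ⟨E, hE, haE, ha₁E, hEQ P haP ha₁P⟩
  obtain ⟨E, hE, haE, ha₁E, hEP⟩ := hE
  refine ⟨E, F, ⟨hE, hF, fun x hx y hy => ?_⟩, haE, ha₁E, hbF⟩
  exact h.toPair.comm P.2 (hE.sub x hx) (hF.sub y hy) (hEP hx) (hFP hy)

theorem Wab_eq_left {a₁ a b : G} (ha : a ∈ 𝒜) (ha₁ : a₁ ∈ 𝒜) (hb : b ∈ ℬ) (ha2 : orderOf a = 2)
    (ha₁2 : orderOf a₁ = 2) (hb2 : orderOf b = 2) (haa : a * a₁ = a₁ * a) (hab : a * b = b * a)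
    (hab₁ : a₁ * b = b * a₁) : Wab a b = Wab a₁ b := by
  obtain ⟨E, F, hEF, haE, ha₁E, hbF⟩ := exists_fours h ha ha₁ hb ha2 ha₁2 hb2 haa hab hab₁
  rw [← Fours.vc_eq_Wab h hC hEF haE (ne_one_of_orderOf ha2) hbF (ne_one_of_orderOf hb2),
    Fours.vc_eq_Wab h hC hEF ha₁E (ne_one_of_orderOf ha₁2) hbF (ne_one_of_orderOf hb2)]

theorem Wab_comm {a b : G} (ha : a ∈ 𝒜) (hb : b ∈ ℬ) (ha2 : orderOf a = 2)
    (hb2 : orderOf b = 2) (hab : a * b = b * a) : Wab a b = Wab b a := by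
  obtain ⟨E, F, hEF, haE, -, hbF⟩ := exists_fours h ha ha hb ha2 ha2 hb2 rfl hab hab
  rw [← Fours.vc_eq_Wab h hC hEF haE (ne_one_of_orderOf ha2) hbF (ne_one_of_orderOf hb2), Vc_comm,
    Fours.vc_eq_Wab (min_symm h) hC hEF.symm hbF (ne_one_of_orderOf hb2) haE (ne_one_of_orderOf ha2)]

theorem Wab_eq_right {b₁ a b : G} (ha : a ∈ 𝒜) (hb : b ∈ ℬ) (hb₁ : b₁ ∈ ℬ) (ha2 : orderOf a = 2)
    (hb2 : orderOf b = 2) (hb₁2 : orderOf b₁ = 2) (hbb : b * b₁ = b₁ * b) (hab : a * b = b * a)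
    (hab₁ : a * b₁ = b₁ * a) : Wab a b = Wab a b₁ := by
  rw [Wab_comm h hC ha hb ha2 hb2 hab, Wab_comm h hC ha hb₁ ha2 hb₁2 hab₁]
  exact Wab_eq_left (min_symm h) hC hb hb₁ ha hb2 hb₁2 ha2 hbb hab.symm hab₁.symm

theorem Wab_odd {a b : G} (ha : a ∈ 𝒜) (hb : b ∈ ℬ) (ha2 : orderOf a = 2)
    (hb2 : orderOf b = 2) (hab : a * b = b * a) : Odd (Nat.card (Wab a b)) := by
  obtain ⟨E, F, hEF, haE, -, hbF⟩ := exists_fours h ha ha hb ha2 ha2 hb2 rfl hab hab
  rw [← Fours.vc_eq_Wab h hC hEF haE (ne_one_of_orderOf ha2) hbF (ne_one_of_orderOf hb2)]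
  exact Fours.vc_odd h hC hEF

omit [Finite G] h hC in
theorem commutator_mem_Wab {a b v : G} (hv : v ∈ Oc (a * b)) : ⁅v, b⁆ ∈ Wab a b :=
  mem_sup_right (commutator_mem_commutator hv (mem_zpowers b))

/-- **The functor**, in the form used by the geometric argument. -/
theorem exists_functor : ∃ W : G → G → Subgroup G,
    (∀ g a b, W (g * a * g⁻¹) (g * b * g⁻¹) = (W a b).map (MulAut.conj g).toMonoidHom) ∧
    (∀ a ∈ 𝒜, ∀ b ∈ ℬ, orderOf a = 2 → orderOf b = 2 → Commute a b →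
      Odd (Nat.card (W a b)) ∧ (∀ v ∈ Oc (a * b), ⁅v, b⁆ ∈ W a b) ∧
      (∀ a₁ ∈ 𝒜, orderOf a₁ = 2 → Commute a a₁ → Commute a₁ b → W a b = W a₁ b) ∧
      (∀ b₁ ∈ ℬ, orderOf b₁ = 2 → Commute b b₁ → Commute a b₁ → W a b = W a b₁)) := by
  refine ⟨Wab, fun g a b => (map_Wab g a b).symm, ?_⟩
  intro a ha b hb ha2 hb2 hab
  refine ⟨Wab_odd h hC ha hb ha2 hb2 hab.eq, fun v hv => commutator_mem_Wab hv, ?_, ?_⟩
  · intro a₁ ha₁ ha₁2 haa hab₁
    exact Wab_eq_left h hC ha ha₁ hb ha2 ha₁2 hb2 haa.eq hab.eq hab₁.eq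
  · intro b₁ hb₁ hb₁2 hbb hab₁
    exact Wab_eq_right h hC ha hb hb₁ ha2 hb2 hb₁2 hbb.eq hab.eq hab₁.eq

end Main

end Cfsg.Agent.TwoFusion.ClosedFunctor
end

-- part: TwoFusion/ClosedCommutator
section
prune_inst 0x200000000022000000000000000000000000000000000000000000000000000000000000000000000000000020000000021000000000000020000000000000000000000200000000000000000000000000000000000000000000000000000000000000000
set_option linter.all false
open scoped Cfsg.Agent.FastGrp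

-- part: TwoFusion/ClosedGeometry
section
/-!
# The geometry of a pair of disjoint closed families

`w a b ∈ Ω` is attached to the commuting pairs of involutions `(a, b)`, `a ∈ 𝒜`, `b ∈ ℬ`, equivariantly, and does
not change when `a` (or `b`) is replaced by an involution of the same family commuting with it (and with the
other one).  Then either `w` is constant, or all involutions of `𝒜` commute with all involutions of `ℬ`.
-/

set_option autoImplicit false
set_option linter.style.haveILetI false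

namespace Cfsg.Agent.TwoFusion.ClosedGeometry

open Subgroup
open Cfsg.Agent.TwoFusion.ClosedFam
open Cfsg.Agent.TwoFusion.ClosedSimple
open Cfsg.Agent.TwoFusion.ClosedMin
open Cfsg.Agent.TwoFusion.ClosedLocal

variable {G : Type*} [Group G]

/-- `K` odd, `x, y` commuting involutions normalising `K`, centralised by `g` modulo `K`: some `v g`, `v ∈ K`,
centralises `x` and `y`. -/
theorem exists_mul_commute [Finite G] {K : Subgroup G} (hK : Odd (Nat.card K)) {x y g : G}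
    (ox : orderOf x = 2) (oy : orderOf y = 2) (hxy : Commute x y)
    (hx : ∀ k ∈ K, x * k * x⁻¹ ∈ K) (hy : ∀ k ∈ K, y * k * y⁻¹ ∈ K)
    (hgx : g * x * g⁻¹ * x⁻¹ ∈ K) (hgy : g * y * g⁻¹ * y⁻¹ ∈ K) :
    ∃ v ∈ K, v * g * x = x * (v * g) ∧ v * g * y = y * (v * g) := by
  have hT : IsPGroup 2 (zpowers x ⊔ zpowers y : Subgroup G) := by
    refine isPGroup_sup_zpowers (isPGroup_zpowers_of_orderOf ox) oy ?_
    intro q hq
    obtain ⟨n, rfl⟩ := mem_zpowers_iff.1 hq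
    exact (hxy.symm.zpow_right n).eq
  have hnorm : ∀ {z : G}, orderOf z = 2 → (∀ k ∈ K, z * k * z⁻¹ ∈ K) →
      z ∈ normalizer (K : Set G) := by
    intro z oz hz
    rw [mem_normalizer_iff]
    intro k
    refine ⟨hz k, fun hk => ?_⟩
    have := hz _ hk
    have e : z * (z * k * z⁻¹) * z⁻¹ = (z * z) * k * (z * z)⁻¹ := by group
    rw [e, mul_self oz] at this
    simpa using this
  have hn : (zpowers x ⊔ zpowers y : Subgroup G) ≤ normalizer (K : Set G) := by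
    refine sup_le ?_ ?_
    · rw [zpowers_le]; exact hnorm ox hx
    · rw [zpowers_le]; exact hnorm oy hy
  have hR : IsPGroup 2 ((zpowers x ⊔ zpowers y : Subgroup G).map (MulAut.conj g).toMonoidHom) :=
    hT.map _
  have hRle : (zpowers x ⊔ zpowers y : Subgroup G).map (MulAut.conj g).toMonoidHom ≤
      K ⊔ (zpowers x ⊔ zpowers y) := by
    rw [map_le_iff_le_comap]
    refine sup_le ?_ ?_
    · rw [zpowers_le]
      show g * x * g⁻¹ ∈ K ⊔ (zpowers x ⊔ zpowers y)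
      have e : g * x * g⁻¹ = g * x * g⁻¹ * x⁻¹ * x := by group
      rw [e]
      exact mul_mem (mem_sup_left hgx) (mem_sup_right mem_sup_left')
    · rw [zpowers_le]
      show g * y * g⁻¹ ∈ K ⊔ (zpowers x ⊔ zpowers y)
      have e : g * y * g⁻¹ = g * y * g⁻¹ * y⁻¹ * y := by group
      rw [e]
      exact mul_mem (mem_sup_left hgy) (mem_sup_right mem_sup_right')
  obtain ⟨v, hv, hvr⟩ := exists_conj_of_le_sup hK hT hn hR hRle
  have key : ∀ z : G, z ∈ (zpowers x ⊔ zpowers y : Subgroup G) → (∀ k ∈ K, z * k * z⁻¹ ∈ K) →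
      g * z * g⁻¹ * z⁻¹ ∈ K → v * g * z = z * (v * g) := by
    intro z hzT hz hgz
    have h1 := hvr (g * z * g⁻¹) ⟨z, hzT, rfl⟩
    have h2 : v * (g * z * g⁻¹) * v⁻¹ * z⁻¹ ∈ K := by
      have e : v * (g * z * g⁻¹) * v⁻¹ * z⁻¹ = v * (g * z * g⁻¹ * z⁻¹) * (z * v⁻¹ * z⁻¹) := by group
      rw [e]
      exact mul_mem (mul_mem hv hgz) (hz _ (inv_mem hv))
    have h3 : v * (g * z * g⁻¹) * v⁻¹ * z⁻¹ = 1 :=
      eq_one_of_odd_of_isPGroup hK hT h2 (mul_mem h1 (inv_mem hzT))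
    have h4 : v * (g * z * g⁻¹) * v⁻¹ = z := mul_inv_eq_one.1 h3
    calc v * g * z = (v * (g * z * g⁻¹) * v⁻¹) * (v * g) := by group
      _ = z * (v * g) := by rw [h4]
  exact ⟨v, hv, key x mem_sup_left' hx hgx, key y mem_sup_right' hy hgy⟩

/-- `x, y` involutions with `[x, y] ∈ K`, `K` of odd order: a `K`-conjugate of `y` commutes with `x`. -/
theorem exists_conj_commute {K : Subgroup G} (hK : Odd (Nat.card K)) {x y : G}
    (ox : orderOf x = 2) (oy : orderOf y = 2) (h : x * y * x⁻¹ * y⁻¹ ∈ K) :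
    ∃ v ∈ K, Commute x (v * y * v⁻¹) := by
  obtain ⟨N, hN⟩ := Cfsg.Agent.Lib.KleinGen.exists_sqrt_exponent K hK
  set u := x * y * x⁻¹ * y⁻¹ with hu
  set s := u ^ N with hs
  have hsK : s ∈ K := pow_mem h N
  set t := s ^ N with ht
  have htK : t ∈ K := pow_mem hsK N
  have hss : s * s = u := (hN u h).1
  have htt : t * t = s := (hN s hsK).1
  have hxi := inv_eq ox
  have hyi := inv_eq oy
  have hxx := mul_self ox
  have hyy := mul_self oy
  have hxu : x * u * x⁻¹ = u⁻¹ := by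
    rw [hu]
    have : x * (x * y * x⁻¹ * y⁻¹) * x⁻¹ = (x * x) * y * x⁻¹ * y⁻¹ * x⁻¹ := by group
    rw [this, hxx, hxi, hyi]
    simp only [mul_inv_rev, hxi, hyi, one_mul, mul_assoc]
  have hyu : y * u * y⁻¹ = u⁻¹ := by
    rw [hu]
    have : y * (x * y * x⁻¹ * y⁻¹) * y⁻¹ = y * x * y * x⁻¹ * (y⁻¹ * y⁻¹) := by group
    rw [this, hxi, hyi, hyy]
    simp only [mul_inv_rev, hxi, hyi, mul_one, mul_assoc]
  have hxs : x * s * x⁻¹ = s⁻¹ := by rw [hs, ← conj_pow, hxu, inv_pow]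
  have hys : y * s * y⁻¹ = s⁻¹ := by rw [hs, ← conj_pow, hyu, inv_pow]
  have hyt : y * t * y⁻¹ = t⁻¹ := by rw [ht, ← conj_pow, hys, inv_pow]
  refine ⟨t, htK, ?_⟩
  have e1 : t * y * t⁻¹ = s * y := by
    have : y * t⁻¹ * y⁻¹ = t := by
      calc y * t⁻¹ * y⁻¹ = (y * t * y⁻¹)⁻¹ := by group
        _ = t := by rw [hyt, inv_inv]
    calc t * y * t⁻¹ = t * (y * t⁻¹ * y⁻¹) * y := by group
      _ = t * t * y := by rw [this]
      _ = s * y := by rw [htt]
  rw [e1]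
  show x * (s * y) = s * y * x
  calc x * (s * y) = (x * s * x⁻¹) * (x * y * x⁻¹ * y⁻¹) * y * x := by group
    _ = s⁻¹ * u * y * x := by rw [hxs]
    _ = s⁻¹ * (s * s) * y * x := by rw [hss]
    _ = s * y * x := by group

section

variable {Ω : Type*} [MulAction G Ω]

/-- An equivariant function on the commuting pairs, invariant under adjacency. -/
structure Geo (𝒜 ℬ : Set G) (w : G → G → Ω) : Prop where
  conj : ∀ g a b : G, CPair 𝒜 ℬ a b → w (g * a * g⁻¹) (g * b * g⁻¹) = g • w a b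
  left : ∀ a a₁ b : G, CPair 𝒜 ℬ a b → CPair 𝒜 ℬ a₁ b → Commute a a₁ → w a b = w a₁ b
  right : ∀ a b b₁ : G, CPair 𝒜 ℬ a b → CPair 𝒜 ℬ a b₁ → Commute b b₁ → w a b = w a b₁

theorem Geo.symm {𝒜 ℬ : Set G} {w : G → G → Ω} (h : Geo 𝒜 ℬ w) : Geo ℬ 𝒜 (fun b a => w a b) where
  conj g a b hab := h.conj g b a hab.symm
  left a a₁ b h1 h2 hc := h.right b a a₁ h1.symm h2.symm hc
  right a b b₁ h1 h2 hc := h.left b b₁ a h1.symm h2.symm hc

/-- the points of the geometry -/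
def IsPt (𝒜 ℬ : Set G) (w : G → G → Ω) (η : Ω) : Prop := ∃ a b : G, CPair 𝒜 ℬ a b ∧ w a b = η

variable {𝒜 ℬ : Set G} {w : G → G → Ω}

omit [MulAction G Ω] in
theorem IsPt.symm {η : Ω} (h : IsPt 𝒜 ℬ w η) : IsPt ℬ 𝒜 (fun b a => w a b) η := by
  obtain ⟨a, b, hab, e⟩ := h
  exact ⟨b, a, hab.symm, e⟩

theorem IsPt.smul (hp : Pair 𝒜 ℬ) (hw : Geo 𝒜 ℬ w) {η : Ω} (h : IsPt 𝒜 ℬ w η) (g : G) :
    IsPt 𝒜 ℬ w (g • η) := by
  obtain ⟨a, b, hab, rfl⟩ := h
  exact ⟨_, _, hab.conj hp.left hp.right g, hw.conj g a b hab⟩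

/-- (L1) -/
theorem smul_eq_of_comm (hw : Geo 𝒜 ℬ w) {a b g : G} (hab : CPair 𝒜 ℬ a b) (ha : g * a = a * g)
    (hb : g * b = b * g) : g • w a b = w a b := by
  rw [← hw.conj g a b hab]
  have e1 : g * a * g⁻¹ = a := by rw [ha]; group
  have e2 : g * b * g⁻¹ = b := by rw [hb]; group
  rw [e1, e2]

/-- (L2) -/
theorem eq_of_isPGroup [Finite G] (hp : Pair 𝒜 ℬ) (hw : Geo 𝒜 ℬ w) {Q : Subgroup G} (hQ : IsPGroup 2 Q)
    {a b a₁ b₁ : G} (hab : CPair 𝒜 ℬ a b) (hab₁ : CPair 𝒜 ℬ a₁ b₁) (ha : a ∈ Q) (hb : b ∈ Q) (ha₁ : a₁ ∈ Q)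
    (hb₁ : b₁ ∈ Q) : w a b = w a₁ b₁ := by
  obtain ⟨c, hcA, hcQ, oc, hcc⟩ := exists_central hp.left hQ hab.a_mem ha (ne_one hab.oa)
  obtain ⟨d, hdB, hdQ, od, hdc⟩ := exists_central hp.right hQ hab.b_mem hb (ne_one hab.ob)
  have hcd : CPair 𝒜 ℬ c d := ⟨hcA, hdB, oc, od, hcc d hdQ⟩
  have key : ∀ x y : G, CPair 𝒜 ℬ x y → x ∈ Q → y ∈ Q → w x y = w c d := by
    intro x y hxy hx hy
    have h1 : CPair 𝒜 ℬ c y := ⟨hcA, hxy.b_mem, oc, hxy.ob, hcc y hy⟩
    rw [hw.left x c y hxy h1 (hcc x hx).symm, hw.right c y d h1 hcd (hdc y hy).symm]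
  rw [key a b hab ha hb, key a₁ b₁ hab₁ ha₁ hb₁]

/-- (L3) -/
theorem exists_sylow [Finite G] (hp : Pair 𝒜 ℬ) (hw : Geo 𝒜 ℬ w) {η : Ω} (hη : IsPt 𝒜 ℬ w η) {R : Subgroup G}
    (hR : IsPGroup 2 R) (hRη : ∀ r ∈ R, r • η = η) :
    ∃ T : Sylow 2 G, R ≤ (T : Subgroup G) ∧
      (∀ a b : G, CPair 𝒜 ℬ a b → a ∈ (T : Subgroup G) → b ∈ (T : Subgroup G) → w a b = η) ∧
      ∀ t ∈ (T : Subgroup G), t • η = η := by
  haveI : Fact (Nat.Prime 2) := ⟨Nat.prime_two⟩
  obtain ⟨a, b, hab, rfl⟩ := hη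
  obtain ⟨T₀, hT₀⟩ := hab.isPGroup.exists_le_sylow
  have ha : a ∈ (T₀ : Subgroup G) := hT₀ mem_sup_left'
  have hb : b ∈ (T₀ : Subgroup G) := hT₀ mem_sup_right'
  set M : Subgroup G := MulAction.stabilizer G (w a b) with hM
  have hT₀M : (T₀ : Subgroup G) ≤ M := by
    intro t ht
    rw [hM, MulAction.mem_stabilizer_iff, ← hw.conj t a b hab]
    exact eq_of_isPGroup hp hw T₀.2 (hab.conj hp.left hp.right t) hab
      (mul_mem (mul_mem ht ha) (inv_mem ht)) (mul_mem (mul_mem ht hb) (inv_mem ht)) ha hb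
  have hRM : R ≤ M := fun r hr => hRη r hr
  obtain ⟨c, hcM, hc⟩ := exists_conj_sylow_subgroup hR hRM (T₀.subtype hT₀M)
  have hc' : ∀ r ∈ R, c * r * c⁻¹ ∈ (T₀ : Subgroup G) := by
    intro r hr
    obtain ⟨s, hs, e⟩ := hc r hr
    rw [← e]
    exact hs
  have hcη : c⁻¹ • w a b = w a b := inv_mem hcM
  refine ⟨c⁻¹ • T₀, ?_, ?_, ?_⟩
  · intro r hr
    refine ⟨c * r * c⁻¹, hc' r hr, ?_⟩
    show c⁻¹ * (c * r * c⁻¹) * c⁻¹⁻¹ = r
    group
  · rintro x y hxy ⟨x₀, hx₀, ex⟩ ⟨y₀, hy₀, ey⟩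
    have ex' : x₀ = c * x * c⁻¹ := by
      rw [← ex]
      show x₀ = c * (c⁻¹ * x₀ * c⁻¹⁻¹) * c⁻¹
      group
    have ey' : y₀ = c * y * c⁻¹ := by
      rw [← ey]
      show y₀ = c * (c⁻¹ * y₀ * c⁻¹⁻¹) * c⁻¹
      group
    have h1 : w (c * x * c⁻¹) (c * y * c⁻¹) = w a b := by
      refine eq_of_isPGroup hp hw T₀.2 (hxy.conj hp.left hp.right c) hab ?_ ?_ ha hb
      · rw [← ex']; exact hx₀
      · rw [← ey']; exact hy₀
    rw [hw.conj c x y hxy] at h1
    calc w x y = c⁻¹ • (c • w x y) := by rw [inv_smul_smul]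
      _ = w a b := by rw [h1, hcη]
  · rintro _ ⟨t₀, ht₀, rfl⟩
    show (c⁻¹ * t₀ * c⁻¹⁻¹) • w a b = w a b
    have h1 : t₀ • w a b = w a b := hT₀M ht₀
    have h2 : c⁻¹⁻¹ • w a b = w a b := by rw [inv_inv]; exact hcM
    rw [mul_smul, mul_smul, h2, h1, hcη]

/-- (L4) -/
theorem exists_central_sylow [Finite G] {𝒞 : Set G} (h : IsClosedFam 𝒞) (T : Sylow 2 G) {x : G} (hx : x ∈ 𝒞)
    (hx1 : x ≠ 1) :
    ∃ a ∈ 𝒞, a ∈ (T : Subgroup G) ∧ orderOf a = 2 ∧ ∀ t ∈ (T : Subgroup G), a * t = t * a := by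
  obtain ⟨g, hg⟩ := exists_conj_sylow (h.isPGroup_zpowers hx) T
  refine exists_central h T.2 (h.conj_mem x hx g) (hg x (mem_zpowers x)) ?_
  intro h1
  apply hx1
  have : x = g⁻¹ * (g * x * g⁻¹) * g := by group
  rw [this, h1]; group

/-- (L5) `O(C(a))` fixes `w a b`. -/
theorem Oc_smul_left [Finite G] (h : Min 𝒜 ℬ) (hw : Geo 𝒜 ℬ w) {a b v : G} (hab : CPair 𝒜 ℬ a b)
    (hv : v ∈ Oc a) : v • w a b = w a b := by
  haveI : Fact (Nat.Prime 2) := ⟨Nat.prime_two⟩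
  obtain ⟨T, hT⟩ := hab.isPGroup.exists_le_sylow
  have ha : a ∈ (T : Subgroup G) := hT mem_sup_left'
  have hb : b ∈ (T : Subgroup G) := hT mem_sup_right'
  obtain ⟨b₁, hb₁, hb₁T, ob₁, hne, hc⟩ := exists_four h T hab.b_mem hb hab.ob
  have hab₁ : CPair 𝒜 ℬ a b₁ := ⟨hab.a_mem, hb₁, hab.oa, ob₁, h.comm T.2 hab.a_mem hb₁ ha hb₁T⟩
  have hbb₁ : b * b₁ ∈ ℬ := h.right.mul_mem T T.2 b hb b₁ hb₁T hab.b_mem hb₁
  have obb₁ : orderOf (b * b₁) = 2 := by
    apply orderOf_eq_two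
    · calc b * b₁ * (b * b₁) = b * (b₁ * b) * b₁ := by group
        _ = b * (b * b₁) * b₁ := by rw [hc]
        _ = (b * b) * (b₁ * b₁) := by group
        _ = 1 := by rw [mul_self hab.ob, mul_self ob₁, one_mul]
    · intro e
      apply hne
      rw [← inv_eq hab.ob]
      exact (eq_inv_of_mul_eq_one_right e)
  have hab₂ : CPair 𝒜 ℬ a (b * b₁) :=
    ⟨hab.a_mem, hbb₁, hab.oa, obb₁, h.comm T.2 hab.a_mem hbb₁ ha (mul_mem hb hb₁T)⟩
  have hle : Oc a ≤ MulAction.stabilizer G (w a b) := by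
    refine Cfsg.Agent.Lib.KleinGen.le_of_klein (Oc a) _ (odd_Oc a) b b₁ (mul_self hab.ob) (mul_self ob₁) hc
      (fun x hx => conj_mem_Oc hab.comm.symm.eq hx) (fun x hx => conj_mem_Oc hab₁.comm.symm.eq hx) ?_ ?_ ?_
    · rintro x ⟨hx, hx2⟩
      exact smul_eq_of_comm hw hab (Oc_comm hx) (mem_cent.1 hx2)
    · rintro x ⟨hx, hx2⟩
      rw [hw.right a b b₁ hab hab₁ hc]
      exact smul_eq_of_comm hw hab₁ (Oc_comm hx) (mem_cent.1 hx2)
    · rintro x ⟨hx, hx2⟩
      rw [hw.right a b (b * b₁) hab hab₂ (by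
        show b * (b * b₁) = b * b₁ * b
        rw [mul_assoc, ← hc])]
      exact smul_eq_of_comm hw hab₂ (Oc_comm hx) (mem_cent.1 hx2)
  exact hle hv

theorem mul_mem_four {𝒞 : Set G} (h : IsClosedFam 𝒞) {Q : Subgroup G} (hQ : IsPGroup 2 Q) {b b₁ : G}
    (hb : b ∈ 𝒞) (hb₁ : b₁ ∈ 𝒞) (hbQ : b ∈ Q) (hb₁Q : b₁ ∈ Q) (ob : orderOf b = 2) (ob₁ : orderOf b₁ = 2)
    (hne : b₁ ≠ b) (hc : b * b₁ = b₁ * b) : b * b₁ ∈ 𝒞 ∧ orderOf (b * b₁) = 2 := by
  refine ⟨h.mul_mem Q hQ b hbQ b₁ hb₁Q hb hb₁, orderOf_eq_two ?_ ?_⟩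
  · calc b * b₁ * (b * b₁) = b * (b₁ * b) * b₁ := by group
      _ = b * (b * b₁) * b₁ := by rw [hc]
      _ = (b * b) * (b₁ * b₁) := by group
      _ = 1 := by rw [mul_self ob, mul_self ob₁, one_mul]
  · intro e
    apply hne
    rw [← inv_eq ob]
    exact (eq_inv_of_mul_eq_one_right e)

/-- (L6) -/
theorem smul_eq_of_comm_mul [Finite G] (h : Min 𝒜 ℬ) (hw : Geo 𝒜 ℬ w) {x y a g : G} (hxy : CPair 𝒜 ℬ x y)
    (hay : CPair 𝒜 ℬ a y) (hax : Commute a x) (hga : g * a = a * g) (hg : g * (x * y) = x * y * g) :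
    g • w x y = w x y := by
  have hH := centralizer_ne_top_left h hay.a_mem hay.oa
  have h1 : g * x * g⁻¹ * x⁻¹ ∈ Oc a :=
    comm_mem_core_of_ind h hH hxy (mem_cent.2 hax.symm.eq) (mem_cent.2 hay.comm.symm.eq) (mem_cent.2 hga) hg
  have h2 : g * y * g⁻¹ * y⁻¹ ∈ Oc a :=
    comm_mem_core_of_ind (Min.symm h) hH hxy.symm (mem_cent.2 hay.comm.symm.eq) (mem_cent.2 hax.symm.eq)
      (mem_cent.2 hga) (by rw [← hxy.comm.eq]; exact hg)
  obtain ⟨v, hv, hvx, hvy⟩ := exists_mul_commute (odd_Oc a) hxy.oa hxy.ob hxy.comm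
    (fun k hk => conj_mem_Oc hax.symm.eq hk) (fun k hk => conj_mem_Oc hay.comm.symm.eq hk) h1 h2
  have h3 : (v * g) • w x y = w x y := smul_eq_of_comm hw hxy hvx hvy
  have h4 : v • w x y = w x y := by
    rw [hw.left x a y hxy hay hax.symm]
    exact Oc_smul_left h hw hay hv
  have h5 : v⁻¹ • w x y = w x y := by rw [inv_smul_eq_iff, h4]
  calc g • w x y = v⁻¹ • (v * g) • w x y := by rw [← mul_smul]; congr 1; group
    _ = w x y := by rw [h3, h5]

/-- (L7) `O(C(xy))` fixes `w x y`. -/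
theorem Oc_mul_smul [Finite G] (h : Min 𝒜 ℬ) (hw : Geo 𝒜 ℬ w) {x y v : G} (hxy : CPair 𝒜 ℬ x y)
    (hv : v ∈ Oc (x * y)) : v • w x y = w x y := by
  haveI : Fact (Nat.Prime 2) := ⟨Nat.prime_two⟩
  obtain ⟨T, hT⟩ := hxy.isPGroup.exists_le_sylow
  have hx : x ∈ (T : Subgroup G) := hT mem_sup_left'
  have hy : y ∈ (T : Subgroup G) := hT mem_sup_right'
  obtain ⟨x₁, hx₁, hx₁T, ox₁, hne, hc⟩ := exists_four (Min.symm h) T hxy.a_mem hx hxy.oa
  have hxy₁ : CPair 𝒜 ℬ x₁ y := ⟨hx₁, hxy.b_mem, ox₁, hxy.ob, h.comm T.2 hx₁ hxy.b_mem hx₁T hy⟩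
  obtain ⟨hm, om⟩ := mul_mem_four h.left T.2 hxy.a_mem hx₁ hx hx₁T hxy.oa ox₁ hne hc
  have hxy₂ : CPair 𝒜 ℬ (x * x₁) y :=
    ⟨hm, hxy.b_mem, om, hxy.ob, h.comm T.2 hm hxy.b_mem (mul_mem hx hx₁T) hy⟩
  have hcx : x * (x * y) = x * y * x := by rw [mul_assoc x y x, ← hxy.comm.eq]
  have hcx₁ : x₁ * (x * y) = x * y * x₁ := by
    rw [← mul_assoc, ← hc, mul_assoc, mul_assoc, hxy₁.comm.eq]
  have hle : Oc (x * y) ≤ MulAction.stabilizer G (w x y) := by
    refine Cfsg.Agent.Lib.KleinGen.le_of_klein (Oc (x * y)) _ (odd_Oc _) x x₁ (mul_self hxy.oa)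
      (mul_self ox₁) hc (fun u hu => conj_mem_Oc hcx hu) (fun u hu => conj_mem_Oc hcx₁ hu) ?_ ?_ ?_
    · rintro u ⟨hu, hu2⟩
      exact smul_eq_of_comm_mul h hw hxy hxy (Commute.refl x) (mem_cent.1 hu2) (Oc_comm hu)
    · rintro u ⟨hu, hu2⟩
      exact smul_eq_of_comm_mul h hw hxy hxy₁ hc.symm (mem_cent.1 hu2) (Oc_comm hu)
    · rintro u ⟨hu, hu2⟩
      refine smul_eq_of_comm_mul h hw hxy hxy₂ ?_ (mem_cent.1 hu2) (Oc_comm hu)
      show x * x₁ * x = x * (x * x₁)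
      rw [mul_assoc, ← hc]
  exact hle hv

/-- (L8) `C(xy)` fixes `w x y`. -/
theorem cent_mul_smul [Finite G] (h : Min 𝒜 ℬ) (hw : Geo 𝒜 ℬ w) {x y g : G} (hxy : CPair 𝒜 ℬ x y)
    (hg : g * (x * y) = x * y * g) : g • w x y = w x y := by
  have hcx : x * (x * y) = x * y * x := by rw [mul_assoc x y x, ← hxy.comm.eq]
  have hcy : y * (x * y) = x * y * y := by rw [← mul_assoc, ← hxy.comm.eq]
  have hgy' : g * (y * x) = y * x * g := by rw [← hxy.comm.eq]; exact hg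
  have h1 : g * x * g⁻¹ * x⁻¹ ∈ Oc (x * y) := by
    have := inv_mem (hxy.comm_mem_Oc h.toPair hg)
    have e : (x * g * x⁻¹ * g⁻¹)⁻¹ = g * x * g⁻¹ * x⁻¹ := by group
    rwa [e] at this
  have h2 : g * y * g⁻¹ * y⁻¹ ∈ Oc (x * y) := by
    have := inv_mem (hxy.symm.comm_mem_Oc h.toPair.symm hgy')
    have e : (y * g * y⁻¹ * g⁻¹)⁻¹ = g * y * g⁻¹ * y⁻¹ := by group
    rw [e] at this
    rw [hxy.comm.eq]; exact this
  obtain ⟨v, hv, hvx, hvy⟩ := exists_mul_commute (odd_Oc (x * y)) hxy.oa hxy.ob hxy.comm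
    (fun k hk => conj_mem_Oc hcx hk) (fun k hk => conj_mem_Oc hcy hk) h1 h2
  have h3 : (v * g) • w x y = w x y := smul_eq_of_comm hw hxy hvx hvy
  have h4 : v • w x y = w x y := Oc_mul_smul h hw hxy hv
  have h5 : v⁻¹ • w x y = w x y := by rw [inv_smul_eq_iff, h4]
  calc g • w x y = v⁻¹ • (v * g) • w x y := by rw [← mul_smul]; congr 1; group
    _ = w x y := by rw [h3, h5]

/-- (L9) `xy` fixes only the point `w x y`. -/
theorem eq_of_mul_smul [Finite G] (h : Min 𝒜 ℬ) (hw : Geo 𝒜 ℬ w) {x y : G} (hxy : CPair 𝒜 ℬ x y) {η : Ω}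
    (hη : IsPt 𝒜 ℬ w η) (hz : (x * y) • η = η) : η = w x y := by
  haveI : Fact (Nat.Prime 2) := ⟨Nat.prime_two⟩
  have oz := hxy.mul_order h.toPair
  obtain ⟨T, hT, hTη, -⟩ := exists_sylow h.toPair hw hη (isPGroup_zpowers_of_orderOf oz) (by
    intro r hr
    have : r ∈ MulAction.stabilizer G η := (zpowers_le.2 (show x * y ∈ MulAction.stabilizer G η from hz)) hr
    exact this)
  have hzT : x * y ∈ (T : Subgroup G) := hT (mem_zpowers _)
  obtain ⟨a, haA, haT, oa, hac⟩ := exists_central_sylow h.left T hxy.a_mem (ne_one hxy.oa)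
  obtain ⟨b, hbB, hbT, ob, hbc⟩ := exists_central_sylow h.right T hxy.b_mem (ne_one hxy.ob)
  have hab : CPair 𝒜 ℬ a b := ⟨haA, hbB, oa, ob, hac b hbT⟩
  have hη' : w a b = η := hTη a b hab haT hbT
  -- Sylow subgroup of `C(z)` containing `x, y`
  set C : Subgroup G := centralizer ({x * y} : Set G) with hC
  have hcx : x * (x * y) = x * y * x := by rw [mul_assoc x y x, ← hxy.comm.eq]
  have hcy : y * (x * y) = x * y * y := by rw [← mul_assoc, ← hxy.comm.eq]
  have hle : (zpowers x ⊔ zpowers y : Subgroup G) ≤ C :=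
    sup_le (by rw [zpowers_le]; exact mem_cent.2 hcx) (by rw [zpowers_le]; exact mem_cent.2 hcy)
  have hP' : IsPGroup 2 ((zpowers x ⊔ zpowers y : Subgroup G).subgroupOf C) :=
    hxy.isPGroup.of_equiv (Subgroup.subgroupOfEquivOfLe hle).symm
  obtain ⟨S, hS⟩ := hP'.exists_le_sylow
  have hxS : x ∈ (S : Subgroup C).map C.subtype :=
    ⟨⟨x, hle mem_sup_left'⟩, hS (by rw [mem_subgroupOf]; exact mem_sup_left'), rfl⟩
  have hyS : y ∈ (S : Subgroup C).map C.subtype :=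
    ⟨⟨y, hle mem_sup_right'⟩, hS (by rw [mem_subgroupOf]; exact mem_sup_right'), rfl⟩
  have habC : (zpowers a ⊔ zpowers b : Subgroup G) ≤ C :=
    sup_le (by rw [zpowers_le]; exact mem_cent.2 (hac _ hzT)) (by rw [zpowers_le]; exact mem_cent.2 (hbc _ hzT))
  obtain ⟨c, hcC, hc⟩ := exists_conj_sylow_subgroup hab.isPGroup habC S
  have h1 : w x y = w (c * a * c⁻¹) (c * b * c⁻¹) :=
    eq_of_isPGroup h.toPair hw (S.2.map C.subtype) hxy (hab.conj h.left h.right c) hxS hyS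
      (hc a mem_sup_left') (hc b mem_sup_right')
  rw [hw.conj c a b hab, hη'] at h1
  have h2 : c⁻¹ • w x y = w x y := cent_mul_smul h hw hxy (mem_cent.1 (inv_mem hcC))
  rw [← h2, h1, inv_smul_smul]

/-- (L10) `x ∈ 𝒜` and `y ∈ ℬ` have at most one common fixed point. -/
theorem unique_common [Finite G] (h : Min 𝒜 ℬ) (hw : Geo 𝒜 ℬ w) {x y : G} (hx : x ∈ 𝒜) (hy : y ∈ ℬ)
    (ox : orderOf x = 2) (oy : orderOf y = 2) {η η' : Ω} (hη : IsPt 𝒜 ℬ w η) (hη' : IsPt 𝒜 ℬ w η')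
    (h1 : x • η = η) (h2 : y • η = η) (h1' : x • η' = η') (h2' : y • η' = η') : η = η' := by
  obtain ⟨x', hx'y, -, hz, -⟩ := exists_dihedral h.toPair hx hy ox oy
  have key : ∀ θ : Ω, x • θ = θ → y • θ = θ → (x' * y) • θ = θ := by
    intro θ h3 h4
    have h5 : zpowers (x * y) ≤ MulAction.stabilizer G θ := by
      rw [zpowers_le, MulAction.mem_stabilizer_iff, mul_smul, h4, h3]
    exact h5 hz
  rw [eq_of_mul_smul h hw hx'y hη (key η h1 h2), eq_of_mul_smul h hw hx'y hη' (key η' h1' h2')]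

/-- (L10') `x ∈ 𝒜` and `y ∈ ℬ` have a common fixed point. -/
theorem exists_common [Finite G] (h : Min 𝒜 ℬ) (hw : Geo 𝒜 ℬ w) {x y : G} (hx : x ∈ 𝒜) (hy : y ∈ ℬ)
    (ox : orderOf x = 2) (oy : orderOf y = 2) : ∃ η : Ω, IsPt 𝒜 ℬ w η ∧ x • η = η ∧ y • η = η := by
  obtain ⟨x', hx'y, -, -, v, hv, e⟩ := exists_dihedral h.toPair hx hy ox oy
  refine ⟨w x' y, ⟨x', y, hx'y, rfl⟩, ?_, smul_eq_of_comm hw hx'y hx'y.comm.symm.eq rfl⟩
  have h1 : v • w x' y = w x' y := Oc_mul_smul h hw hx'y hv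
  have h2 : v⁻¹ • w x' y = w x' y := by rw [inv_smul_eq_iff, h1]
  have h3 : x' • w x' y = w x' y := smul_eq_of_comm hw hx'y rfl hx'y.comm.eq
  rw [e, mul_smul, mul_smul, h2, h3, h1]

/-- (L11) commuting involutions of `𝒜` have the same fixed points. -/
theorem smul_of_commute [Finite G] (h : Min 𝒜 ℬ) (hw : Geo 𝒜 ℬ w) {x x₁ : G} (hx : x ∈ 𝒜) (hx₁ : x₁ ∈ 𝒜)
    (ox : orderOf x = 2) (ox₁ : orderOf x₁ = 2) (hc : Commute x x₁) {η : Ω} (hη : IsPt 𝒜 ℬ w η)
    (hxη : x • η = η) : x₁ • η = η := by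
  obtain ⟨T, hT, hTη, -⟩ := exists_sylow h.toPair hw hη (isPGroup_zpowers_of_orderOf ox) (by
    intro r hr
    have : r ∈ MulAction.stabilizer G η := (zpowers_le.2 (show x ∈ MulAction.stabilizer G η from hxη)) hr
    exact this)
  have hxT : x ∈ (T : Subgroup G) := hT (mem_zpowers _)
  obtain ⟨a₀, b₀, hab₀, -⟩ := hη
  obtain ⟨y, hyB, hyT, oy, hyc⟩ := exists_central_sylow h.right T hab₀.b_mem (ne_one hab₀.ob)
  have hxy : CPair 𝒜 ℬ x y := ⟨hx, hyB, ox, oy, (hyc x hxT).symm⟩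
  have hη' : w x y = η := hTη x y hxy hxT hyT
  have h1 : x₁ * y * x₁⁻¹ * y⁻¹ ∈ Oc x :=
    ind_mem h (centralizer_ne_top_left h hx ox) hx₁ hyB (mem_cent.2 hc.symm.eq) (mem_cent.2 (hyc x hxT))
  obtain ⟨v, hv, hvc⟩ := exists_conj_commute (odd_Oc x) ox₁ oy h1
  have hvx := Oc_comm hv
  have hxv : v * x * v⁻¹ = x := by rw [hvx]; group
  have hxy' : CPair 𝒜 ℬ x (v * y * v⁻¹) := by
    have := hxy.conj h.left h.right v
    rwa [hxv] at this
  have hx₁y' : CPair 𝒜 ℬ x₁ (v * y * v⁻¹) := ⟨hx₁, hxy'.b_mem, ox₁, hxy'.ob, hvc⟩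
  have h2 : w x₁ (v * y * v⁻¹) = η := by
    rw [hw.left x₁ x _ hx₁y' hxy' hc.symm]
    have h3 := hw.conj v x y hxy
    rw [hxv] at h3
    rw [h3, Oc_smul_left h hw hxy hv, hη']
  rw [← h2]
  exact smul_eq_of_comm hw hx₁y' rfl hvc.eq

open scoped Pointwise

/-- fixed points of `x` -/
def Fx (𝒜 ℬ : Set G) (w : G → G → Ω) (x : G) : Set Ω := {η | IsPt 𝒜 ℬ w η ∧ x • η = η}

theorem smul_Fx (hp : Pair 𝒜 ℬ) (hw : Geo 𝒜 ℬ w) (g x : G) :
    g • Fx 𝒜 ℬ w x = Fx 𝒜 ℬ w (g * x * g⁻¹) := by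
  ext η
  rw [Set.mem_smul_set_iff_inv_smul_mem]
  constructor
  · rintro ⟨h1, h2⟩
    refine ⟨?_, ?_⟩
    · have := h1.smul hp hw g
      rwa [smul_inv_smul] at this
    · rw [mul_smul, mul_smul, h2, smul_inv_smul]
  · rintro ⟨h1, h2⟩
    refine ⟨h1.smul hp hw g⁻¹, ?_⟩
    rw [eq_inv_smul_iff, ← mul_smul, ← mul_smul, h2]

theorem mem_stab_Fx_of_comm (hp : Pair 𝒜 ℬ) (hw : Geo 𝒜 ℬ w) {g x : G} (hg : g * x = x * g) :
    g ∈ MulAction.stabilizer G (Fx 𝒜 ℬ w x) := by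
  rw [MulAction.mem_stabilizer_iff, smul_Fx hp hw]
  have : g * x * g⁻¹ = x := by rw [hg]; group
  rw [this]

theorem Fx_eq_of_commute [Finite G] (h : Min 𝒜 ℬ) (hw : Geo 𝒜 ℬ w) {x x₁ : G} (hx : x ∈ 𝒜) (hx₁ : x₁ ∈ 𝒜)
    (ox : orderOf x = 2) (ox₁ : orderOf x₁ = 2) (hc : Commute x x₁) : Fx 𝒜 ℬ w x = Fx 𝒜 ℬ w x₁ := by
  ext η
  exact ⟨fun hη => ⟨hη.1, smul_of_commute h hw hx hx₁ ox ox₁ hc hη.1 hη.2⟩,
    fun hη => ⟨hη.1, smul_of_commute h hw hx₁ hx ox₁ ox hc.symm hη.1 hη.2⟩⟩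

/-- (L12) every involution `y ∈ ℬ` leaves the set of fixed points of every involution `x ∈ 𝒜` invariant. -/
theorem mem_stab_Fx [Finite G] (h : Min 𝒜 ℬ) (hw : Geo 𝒜 ℬ w) {x y : G} (hx : x ∈ 𝒜) (hy : y ∈ ℬ)
    (ox : orderOf x = 2) (oy : orderOf y = 2) : y ∈ MulAction.stabilizer G (Fx 𝒜 ℬ w x) := by
  haveI : Fact (Nat.Prime 2) := ⟨Nat.prime_two⟩
  obtain ⟨x', hx'y, -, -, v, hv, e⟩ := exists_dihedral h.toPair hx hy ox oy
  obtain ⟨T, hT⟩ := hx'y.isPGroup.exists_le_sylow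
  have hx'T : x' ∈ (T : Subgroup G) := hT mem_sup_left'
  have hyT : y ∈ (T : Subgroup G) := hT mem_sup_right'
  obtain ⟨x₁, hx₁, hx₁T, ox₁, hne, hc⟩ := exists_four (Min.symm h) T hx'y.a_mem hx'T hx'y.oa
  obtain ⟨hm, om⟩ := mul_mem_four h.left T.2 hx'y.a_mem hx₁ hx'T hx₁T hx'y.oa ox₁ hne hc
  have hcx : x' * (x' * y) = x' * y * x' := by rw [mul_assoc x' y x', ← hx'y.comm.eq]
  have hcx₁ : x₁ * (x' * y) = x' * y * x₁ := by
    rw [← mul_assoc, ← hc, mul_assoc, mul_assoc, h.comm T.2 hx₁ hy hx₁T hyT]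
  have hle : Oc (x' * y) ≤ MulAction.stabilizer G (Fx 𝒜 ℬ w x') := by
    refine Cfsg.Agent.Lib.KleinGen.le_of_klein (Oc (x' * y)) _ (odd_Oc _) x' x₁ (mul_self hx'y.oa)
      (mul_self ox₁) hc (fun u hu => conj_mem_Oc hcx hu) (fun u hu => conj_mem_Oc hcx₁ hu) ?_ ?_ ?_
    · rintro u ⟨hu, hu2⟩
      exact mem_stab_Fx_of_comm h.toPair hw (mem_cent.1 hu2)
    · rintro u ⟨hu, hu2⟩
      rw [Fx_eq_of_commute h hw hx'y.a_mem hx₁ hx'y.oa ox₁ hc]
      exact mem_stab_Fx_of_comm h.toPair hw (mem_cent.1 hu2)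
    · rintro u ⟨hu, hu2⟩
      rw [Fx_eq_of_commute h hw hx'y.a_mem hm hx'y.oa om (by
        show x' * (x' * x₁) = x' * x₁ * x'
        rw [mul_assoc x' x₁ x', ← hc])]
      exact mem_stab_Fx_of_comm h.toPair hw (mem_cent.1 hu2)
  have h1 : Fx 𝒜 ℬ w x = Fx 𝒜 ℬ w x' := by
    have h2 : v • Fx 𝒜 ℬ w x' = Fx 𝒜 ℬ w x' := hle hv
    rw [smul_Fx h.toPair hw, ← e] at h2
    exact h2
  rw [h1]
  exact mem_stab_Fx_of_comm h.toPair hw hx'y.comm.symm.eq

/-- (L13) -/
theorem Fx_subset [Finite G] (h : Min 𝒜 ℬ) (hw : Geo 𝒜 ℬ w) {x x₂ : G} (hx : x ∈ 𝒜) (hx₂ : x₂ ∈ 𝒜)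
    (ox : orderOf x = 2) (ox₂ : orderOf x₂ = 2) {η : Ω} (hη : η ∈ Fx 𝒜 ℬ w x) (hη₂ : η ∈ Fx 𝒜 ℬ w x₂) :
    Fx 𝒜 ℬ w x ⊆ Fx 𝒜 ℬ w x₂ := by
  haveI : Fact (Nat.Prime 2) := ⟨Nat.prime_two⟩
  intro η' hη'
  obtain ⟨a₀, b₀, hab₀, -⟩ := hη.1
  have key : ∀ θ ∈ Fx 𝒜 ℬ w x, ∃ y, CPair 𝒜 ℬ x y ∧ w x y = θ := by
    intro θ hθ
    obtain ⟨T, hT, hTθ, -⟩ := exists_sylow h.toPair hw hθ.1 (isPGroup_zpowers_of_orderOf ox) (by
      intro r hr
      have : r ∈ MulAction.stabilizer G θ :=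
        (zpowers_le.2 (show x ∈ MulAction.stabilizer G θ from hθ.2)) hr
      exact this)
    have hxT : x ∈ (T : Subgroup G) := hT (mem_zpowers _)
    obtain ⟨y, hyB, hyT, oy, hyc⟩ := exists_central_sylow h.right T hab₀.b_mem (ne_one hab₀.ob)
    have hxy : CPair 𝒜 ℬ x y := ⟨hx, hyB, ox, oy, (hyc x hxT).symm⟩
    exact ⟨y, hxy, hTθ x y hxy hxT hyT⟩
  obtain ⟨y, hxy, hyη⟩ := key η hη
  obtain ⟨y', hxy', hyη'⟩ := key η' hη'
  set K : Subgroup G := closure {b | b ∈ ℬ ∧ orderOf b = 2 ∧ b * x = x * b} with hK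
  have hKc : ∀ k ∈ K, k * x = x * k := by
    have : K ≤ centralizer ({x} : Set G) := by
      rw [hK, closure_le]
      rintro b ⟨-, -, hb⟩
      exact mem_cent.2 hb
    intro k hk
    exact mem_cent.1 (this hk)
  have hKs : K ≤ MulAction.stabilizer G (Fx 𝒜 ℬ w x₂) := by
    rw [hK, closure_le]
    rintro b ⟨hb, ob, -⟩
    exact mem_stab_Fx h hw hx₂ hb ox₂ ob
  have hyK : y ∈ K := subset_closure ⟨hxy.b_mem, hxy.ob, hxy.comm.symm.eq⟩
  have hy'K : y' ∈ K := subset_closure ⟨hxy'.b_mem, hxy'.ob, hxy'.comm.symm.eq⟩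
  have hP' : IsPGroup 2 ((zpowers y).subgroupOf K) :=
    (isPGroup_zpowers_of_orderOf hxy.ob).of_equiv
      (Subgroup.subgroupOfEquivOfLe (zpowers_le.2 hyK)).symm
  obtain ⟨S, hS⟩ := hP'.exists_le_sylow
  have hyS : y ∈ (S : Subgroup K).map K.subtype :=
    ⟨⟨y, hyK⟩, hS (by rw [mem_subgroupOf]; exact mem_zpowers y), rfl⟩
  obtain ⟨k, hkK, hk⟩ := exists_conj_sylow_subgroup (isPGroup_zpowers_of_orderOf hxy'.ob)
    (zpowers_le.2 hy'K) S
  have hkx : k * x * k⁻¹ = x := by rw [hKc k hkK]; group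
  have hkp : CPair 𝒜 ℬ x (k * y' * k⁻¹) := by
    have := hxy'.conj h.left h.right k
    rwa [hkx] at this
  have hQ : IsPGroup 2 ((S : Subgroup K).map K.subtype ⊔ zpowers x : Subgroup G) := by
    refine isPGroup_sup_zpowers (S.2.map _) ox ?_
    rintro _ ⟨q, _, rfl⟩
    exact (hKc q q.2).symm
  have h1 : w x y = w x (k * y' * k⁻¹) :=
    eq_of_isPGroup h.toPair hw hQ hxy hkp (mem_sup_right (mem_zpowers x)) (mem_sup_left hyS)
      (mem_sup_right (mem_zpowers x)) (mem_sup_left (hk y' (mem_zpowers y')))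
  have h2 := hw.conj k x y' hxy'
  rw [hkx, ← h1, hyη, hyη'] at h2
  have h3 : η' = k⁻¹ • η := by rw [h2, inv_smul_smul]
  have h4 : k⁻¹ • Fx 𝒜 ℬ w x₂ = Fx 𝒜 ℬ w x₂ := hKs (inv_mem hkK)
  rw [← h4, h3]
  exact Set.smul_mem_smul_set hη₂

theorem Fx_eq_of_mem [Finite G] (h : Min 𝒜 ℬ) (hw : Geo 𝒜 ℬ w) {x x₂ : G} (hx : x ∈ 𝒜) (hx₂ : x₂ ∈ 𝒜)
    (ox : orderOf x = 2) (ox₂ : orderOf x₂ = 2) {η : Ω} (hη : η ∈ Fx 𝒜 ℬ w x) (hη₂ : η ∈ Fx 𝒜 ℬ w x₂) :
    Fx 𝒜 ℬ w x = Fx 𝒜 ℬ w x₂ :=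
  Set.Subset.antisymm (Fx_subset h hw hx hx₂ ox ox₂ hη hη₂) (Fx_subset h hw hx₂ hx ox₂ ox hη₂ hη)

/-- (L14) transitivity -/
theorem exists_smul_eq [Finite G] (hp : Pair 𝒜 ℬ) (hw : Geo 𝒜 ℬ w) {η η' : Ω} (hη : IsPt 𝒜 ℬ w η)
    (hη' : IsPt 𝒜 ℬ w η') : ∃ g : G, g • η = η' := by
  haveI : Fact (Nat.Prime 2) := ⟨Nat.prime_two⟩
  obtain ⟨a, b, hab, rfl⟩ := hη
  obtain ⟨a', b', hab', rfl⟩ := hη'
  obtain ⟨T, hT⟩ := hab'.isPGroup.exists_le_sylow
  obtain ⟨g, hg⟩ := exists_conj_sylow hab.isPGroup T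
  refine ⟨g, ?_⟩
  rw [← hw.conj g a b hab]
  exact eq_of_isPGroup hp hw T.2 (hab.conj hp.left hp.right g) hab' (hg a mem_sup_left')
    (hg b mem_sup_right') (hT mem_sup_left') (hT mem_sup_right')

/-- the set of points -/
def Pts (𝒜 ℬ : Set G) (w : G → G → Ω) : Set Ω := {η | IsPt 𝒜 ℬ w η}

/-- (L15) the number of points is odd -/
theorem Pts_odd [Finite G] (hp : Pair 𝒜 ℬ) (hw : Geo 𝒜 ℬ w) {η : Ω} (hη : IsPt 𝒜 ℬ w η) :
    (Pts 𝒜 ℬ w).Finite ∧ Odd (Pts 𝒜 ℬ w).ncard := by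
  haveI : Fact (Nat.Prime 2) := ⟨Nat.prime_two⟩
  have h1 : Pts 𝒜 ℬ w = MulAction.orbit G η := by
    ext θ
    constructor
    · intro hθ
      exact exists_smul_eq hp hw hη hθ
    · rintro ⟨g, rfl⟩
      exact hη.smul hp hw g
  have hfin : (MulAction.orbit G η).Finite := Set.finite_range _
  refine ⟨by rw [h1]; exact hfin, ?_⟩
  rw [h1, ← MulAction.index_stabilizer]
  obtain ⟨T, -, -, hT⟩ := exists_sylow hp hw hη (R := ⊥) IsPGroup.of_bot (by
    intro r hr
    rw [mem_bot] at hr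
    rw [hr, one_smul])
  have hle : (T : Subgroup G) ≤ MulAction.stabilizer G η := fun t ht => hT t ht
  have h2 : (MulAction.stabilizer G η).index ∣ (T : Subgroup G).index := index_dvd_of_le hle
  have h3 : ¬ 2 ∣ (T : Subgroup G).index :=
    T.not_dvd_index' (Subgroup.index_ne_zero_of_finite (H := (T : Subgroup G).subgroupOf _))
  rw [← Nat.not_even_iff_odd, even_iff_two_dvd]
  exact fun h4 => h3 (h4.trans h2)

/-- an involution acting on a finite set of odd order has an odd number of fixed points -/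
theorem ncard_fixed_odd {x : G} (hx : x * x = 1) {S : Set Ω} (hS : S.Finite) (hodd : Odd S.ncard)
    (hxS : ∀ η ∈ S, x • η ∈ S) : Odd {η | η ∈ S ∧ x • η = η}.ncard := by
  classical
  obtain ⟨s, rfl⟩ := hS.exists_finset_coe
  have e1 : {η | η ∈ (s : Set Ω) ∧ x • η = η} = ((s.filter (fun η => x • η = η) : Finset Ω) : Set Ω) := by
    ext η; simp
  rw [e1, Set.ncard_coe_finset]
  rw [Set.ncard_coe_finset] at hodd
  have h1 := Finset.card_filter_add_card_filter_not (s := s) (fun η => x • η = η)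
  have h2 : Even (s.filter (fun η => ¬ x • η = η)).card := by
    have h3 : ((s.filter (fun η => ¬ x • η = η)).card : ZMod 2) = 0 := by
      rw [Finset.card_eq_sum_ones, Nat.cast_sum]
      refine Finset.sum_involution (fun η _ => x • η) ?_ ?_ ?_ ?_
      · intro η _
        decide
      · intro η hη _
        exact (Finset.mem_filter.1 hη).2
      · intro η hη
        rw [Finset.mem_filter] at hη ⊢
        refine ⟨hxS η hη.1, fun e => hη.2 ?_⟩
        rw [← mul_smul, hx, one_smul] at e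
        exact e.symm
      · intro η _
        rw [← mul_smul, hx, one_smul]
    rw [even_iff_two_dvd]
    exact (ZMod.natCast_eq_zero_iff _ 2).1 h3
  rw [← h1] at hodd
  exact (Nat.odd_add.1 hodd).2 h2

/-- (Z) involution-free intersection with a normal subgroup: the family centralises it. -/
theorem centralize [Finite G] {𝒞 : Set G} (h : IsClosedFam 𝒞) (hO : Cfsg.oddCore G = ⊥) (N : Subgroup G)
    [hN : N.Normal] (hdisj : ∀ x ∈ 𝒞, orderOf x = 2 → x ∉ N) : ∀ x ∈ 𝒞, ∀ n ∈ N, x * n = n * x := by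
  haveI : Fact (Nat.Prime 2) := ⟨Nat.prime_two⟩
  intro x hx n hn
  obtain ⟨P, hP⟩ := (h.isPGroup_zpowers hx).exists_le_sylow
  have hxP : x ∈ (P : Subgroup G) := hP (mem_zpowers x)
  have h1 : Cfsg.oddCore N = ⊥ := by
    have h2 := Cfsg.Agent.Lib.Cores.map_subtype_pPrimeCore (G := G) 2 hN
    have h3 : Cfsg.pPrimeCore 2 G = ⊥ := hO
    rw [h3, inf_bot_eq] at h2
    exact (Subgroup.map_eq_bot_iff_of_injective _ N.subtype_injective).1 h2
  have h4 : fam 𝒞 (P : Subgroup G) ⊓ N = ⊥ := by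
    rw [eq_bot_iff]
    rintro y ⟨hy, hyN⟩
    have hyC := (h.mem_fam_iff P.2).1 hy
    rw [mem_bot]
    by_contra hy1
    obtain ⟨k, hk⟩ := h.two y hyC.1
    have hd : orderOf y ∣ 2 ^ k := orderOf_dvd_of_pow_eq_one hk
    obtain ⟨m, hm, hm2⟩ := (Nat.dvd_prime_pow Nat.prime_two).1 hd
    have hm0 : m ≠ 0 := by
      rintro rfl
      rw [pow_zero, orderOf_eq_one_iff] at hm2
      exact hy1 hm2
    obtain ⟨l, rfl⟩ := Nat.exists_eq_succ_of_ne_zero hm0
    refine hdisj (y ^ 2 ^ l) (h.pow_mem hyC.1 _) ?_ (pow_mem hyN _)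
    rw [orderOf_pow' y (by positivity), hm2, Nat.gcd_eq_right (pow_dvd_pow 2 (Nat.le_succ l)), pow_succ,
      Nat.mul_div_cancel_left _ (by positivity)]
  have h5 := Cfsg.Agent.S1251.result P (fam 𝒞 (P : Subgroup G)) (h.isStronglyClosed P) N
    (fun _ _ => by rw [normalizer_eq_top]; exact mem_top _) h1 h4
  have h6 := h5 (mem_fam hx hxP)
  rw [mem_centralizer_iff] at h6
  exact (h6 n hn).symm

/-- **The geometry theorem**, `Geo` form. -/
theorem geometry' [Finite G] (h : Min 𝒜 ℬ) (hw : Geo 𝒜 ℬ w) :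
    (∀ a ∈ 𝒜, ∀ b ∈ ℬ, orderOf a = 2 → orderOf b = 2 → Commute a b) ∨
      (∀ a b a₁ b₁ : G, CPair 𝒜 ℬ a b → CPair 𝒜 ℬ a₁ b₁ → w a b = w a₁ b₁) := by
  -- the stabiliser of all the fixed point sets
  let N : Subgroup G := ⨅ x : {x : G // x ∈ 𝒜 ∧ orderOf x = 2}, MulAction.stabilizer G (Fx 𝒜 ℬ w (x : G))
  have hN : N.Normal := by
    refine ⟨fun n hn g => ?_⟩
    rw [mem_iInf] at hn ⊢
    rintro ⟨x, hx, ox⟩
    have h1 := hn ⟨g⁻¹ * x * g⁻¹⁻¹, h.left.conj_mem x hx g⁻¹, orderOf_conj ox g⁻¹⟩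
    rw [MulAction.mem_stabilizer_iff] at h1 ⊢
    dsimp only at h1 ⊢
    rw [← smul_Fx h.toPair hw] at h1
    rw [mul_smul, mul_smul, h1, smul_inv_smul]
  by_cases hAN : ∀ x ∈ 𝒜, orderOf x = 2 → x ∉ N
  · left
    intro a ha b hb oa ob
    refine centralize h.left h.oddCore N hAN a ha b ?_
    rw [mem_iInf]
    rintro ⟨x, hx, ox⟩
    exact mem_stab_Fx h hw hx hb ox ob
  · push Not at hAN
    obtain ⟨x, hx, ox, hxN⟩ := hAN
    by_cases hB : ∃ b ∈ ℬ, orderOf b = 2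
    swap
    · left
      intro a _ b hb _ ob
      exact absurd ⟨b, hb, ob⟩ hB
    obtain ⟨b₀, hb₀, ob₀⟩ := hB
    obtain ⟨η₀, hη₀, hxη₀, -⟩ := exists_common h hw hx hb₀ ox ob₀
    obtain ⟨hfin, hodd⟩ := Pts_odd h.toPair hw hη₀
    have hFxodd : ∀ x' ∈ 𝒜, orderOf x' = 2 → Odd (Fx 𝒜 ℬ w x').ncard := by
      intro x' _ ox'
      exact ncard_fixed_odd (mul_self ox') hfin hodd (fun η hη => IsPt.smul h.toPair hw hη x')
    -- all fixed point sets coincide
    have hall : ∀ x' ∈ 𝒜, orderOf x' = 2 → Fx 𝒜 ℬ w x = Fx 𝒜 ℬ w x' := by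
      intro x' hx' ox'
      have h1 : x ∈ MulAction.stabilizer G (Fx 𝒜 ℬ w x') := (mem_iInf.1 hxN) ⟨x', hx', ox'⟩
      have h2 : Odd {η | η ∈ Fx 𝒜 ℬ w x' ∧ x • η = η}.ncard := by
        refine ncard_fixed_odd (mul_self ox) (hfin.subset fun η hη => hη.1) (hFxodd x' hx' ox') ?_
        intro η hη
        have h3 : x • Fx 𝒜 ℬ w x' = Fx 𝒜 ℬ w x' := h1
        rw [← h3]
        exact Set.smul_mem_smul_set hη
      obtain ⟨η, hη, hη2⟩ : {η | η ∈ Fx 𝒜 ℬ w x' ∧ x • η = η}.Nonempty := by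
        by_contra hne
        rw [Set.not_nonempty_iff_eq_empty.1 hne, Set.ncard_empty] at h2
        exact absurd h2 (by decide)
      exact Fx_eq_of_mem h hw hx hx' ox ox' ⟨hη.1, hη2⟩ hη
    -- hence every involution of `𝒜` fixes all points
    have hfix : ∀ x' ∈ 𝒜, orderOf x' = 2 → ∀ η, IsPt 𝒜 ℬ w η → x' • η = η := by
      intro x' hx' ox' η hη
      obtain ⟨g, rfl⟩ := exists_smul_eq h.toPair hw hη₀ hη
      have h1 : g • η₀ ∈ g • Fx 𝒜 ℬ w x := Set.smul_mem_smul_set ⟨hη₀, hxη₀⟩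
      rw [smul_Fx h.toPair hw, ← hall _ (h.left.conj_mem x hx g) (orderOf_conj ox g), hall x' hx' ox'] at h1
      exact h1.2
    -- the kernel
    let N' : Subgroup G :=
      { carrier := {g | ∀ η, IsPt 𝒜 ℬ w η → g • η = η}
        one_mem' := fun η _ => one_smul G η
        mul_mem' := by
          intro g k hg hk η hη
          rw [mul_smul, hk η hη, hg η hη]
        inv_mem' := by
          intro g hg η hη
          rw [inv_smul_eq_iff, hg η hη] }
    have hN' : N'.Normal := by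
      refine ⟨fun n hn g η hη => ?_⟩
      rw [mul_smul, mul_smul, hn _ (hη.smul h.toPair hw g⁻¹), smul_inv_smul]
    by_cases hBN : ∀ y ∈ ℬ, orderOf y = 2 → y ∉ N'
    · left
      intro a ha b hb oa ob
      exact (centralize h.right h.oddCore N' hBN b hb a (hfix a ha oa)).symm
    · right
      push Not at hBN
      obtain ⟨y, hy, oy, hyN⟩ := hBN
      intro a b a₁ b₁ hab hab₁
      have hη : IsPt 𝒜 ℬ w (w a b) := ⟨a, b, hab, rfl⟩
      have hη₁ : IsPt 𝒜 ℬ w (w a₁ b₁) := ⟨a₁, b₁, hab₁, rfl⟩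
      exact unique_common h hw hx hy ox oy hη hη₁ (hfix x hx ox _ hη) (hyN _ hη) (hfix x hx ox _ hη₁)
        (hyN _ hη₁)

/-- **The geometry theorem**: a function `w` on commuting pairs of involutions `(a, b)`, `a ∈ 𝒜`, `b ∈ ℬ`, with
values in a `G`-set, equivariant and invariant under adjacency, is constant, or all involutions of `𝒜` commute
with all involutions of `ℬ`. -/
theorem geometry [Finite G] (h : Min 𝒜 ℬ)
    (hconj : ∀ g a b : G, a ∈ 𝒜 → b ∈ ℬ → orderOf a = 2 → orderOf b = 2 → Commute a b →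
      w (g * a * g⁻¹) (g * b * g⁻¹) = g • w a b)
    (hl : ∀ a ∈ 𝒜, ∀ a₁ ∈ 𝒜, ∀ b ∈ ℬ, orderOf a = 2 → orderOf a₁ = 2 → orderOf b = 2 → Commute a b →
      Commute a₁ b → Commute a a₁ → w a b = w a₁ b)
    (hr : ∀ a ∈ 𝒜, ∀ b ∈ ℬ, ∀ b₁ ∈ ℬ, orderOf a = 2 → orderOf b = 2 → orderOf b₁ = 2 → Commute a b →
      Commute a b₁ → Commute b b₁ → w a b = w a b₁) :
    (∀ a ∈ 𝒜, ∀ b ∈ ℬ, orderOf a = 2 → orderOf b = 2 → Commute a b) ∨
      (∀ a ∈ 𝒜, ∀ b ∈ ℬ, ∀ a₁ ∈ 𝒜, ∀ b₁ ∈ ℬ, orderOf a = 2 → orderOf b = 2 → orderOf a₁ = 2 →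
        orderOf b₁ = 2 → Commute a b → Commute a₁ b₁ → w a b = w a₁ b₁) := by
  have hw : Geo 𝒜 ℬ w :=
    { conj := fun g a b h1 => hconj g a b h1.a_mem h1.b_mem h1.oa h1.ob h1.comm
      left := fun a a₁ b h1 h2 hc => hl a h1.a_mem a₁ h2.a_mem b h1.b_mem h1.oa h2.oa h1.ob h1.comm h2.comm hc
      right := fun a b b₁ h1 h2 hc => hr a h1.a_mem b h1.b_mem b₁ h2.b_mem h1.oa h1.ob h2.ob h1.comm h2.comm hc }
  rcases geometry' h hw with h1 | h1
  · exact Or.inl h1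
  · right
    intro a ha b hb a₁ ha₁ b₁ hb₁ oa ob oa₁ ob₁ hc hc₁
    exact h1 a b a₁ b₁ ⟨ha, hb, oa, ob, hc⟩ ⟨ha₁, hb₁, oa₁, ob₁, hc₁⟩

end

end Cfsg.Agent.TwoFusion.ClosedGeometry
end

-- part: TwoFusion/ClosedCommutator
section
/-!
# The commutator part of Goldschmidt's product theorem

If `A`, `B` are strongly closed in the Sylow 2-subgroup `P` and `A ∩ B = 1`, then
`[⟨A^G⟩, ⟨B^G⟩] ≤ O(G)`.
-/

set_option autoImplicit false
set_option linter.style.haveILetI false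
set_option maxHeartbeats 400000

namespace Cfsg.Agent.TwoFusion.ClosedCommutator

open Subgroup
open scoped commutatorElement
open Cfsg.Agent.TwoFusion.ClosedFam Cfsg.Agent.TwoFusion.ClosedSimple Cfsg.Agent.TwoFusion.ClosedMin
open Cfsg.Agent.TwoFusion.ClosedFunctor

/-- The functor of S1330 is complete. -/
theorem complete {G : Type*} [Group G] [Finite G] : Complete G := by
  classical
  haveI : Fact (Nat.Prime 2) := ⟨Nat.prime_two⟩
  intro E F hcs
  obtain ⟨hC, hp, hinv, hbal⟩ := Cfsg.Agent.S1330.result E F hcs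
  have hcomm : ∀ a ∈ E ⊔ F, ∀ b ∈ E ⊔ F, a * b = b * a := by
    obtain ⟨hE, hF, -, -, -, -, hEF, -⟩ := hcs
    have hEc : ∀ x ∈ E, ∀ y ∈ E, x * y = y * x := fun x hx y hy =>
      congrArg Subtype.val (hE.1.is_comm.comm (⟨x, hx⟩ : E) ⟨y, hy⟩)
    have hFc : ∀ x ∈ F, ∀ y ∈ F, x * y = y * x := fun x hx y hy =>
      congrArg Subtype.val (hF.1.is_comm.comm (⟨x, hx⟩ : F) ⟨y, hy⟩)
    intro a ha b hb
    obtain ⟨x, hx, y, hy, rfl⟩ := (mem_sup_of_comm hEF).1 ha
    obtain ⟨x', hx', y', hy', rfl⟩ := (mem_sup_of_comm hEF).1 hb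
    have e1 := hEF x' hx' y hy
    have e2 := hEF x hx y' hy'
    have e3 := hEc x hx x' hx'
    have e4 := hFc y hy y' hy'
    calc x * y * (x' * y') = x * (y * x') * y' := by group
      _ = (x * x') * (y * y') := by rw [← e1]; group
      _ = (x' * x) * (y' * y) := by rw [e3, e4]
      _ = x' * (x * y') * y := by group
      _ = x' * y' * (x * y) := by rw [e2]; group
  have hexp : ∀ a ∈ E ⊔ F, a ^ 2 = 1 := by
    obtain ⟨hE, hF, -, -, -, -, hEF, -⟩ := hcs
    intro a ha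
    obtain ⟨x, hx, y, hy, rfl⟩ := (mem_sup_of_comm hEF).1 ha
    have c : Commute x y := hEF x hx y hy
    rw [c.mul_pow, hE.2 x hx, hF.2 y hy, one_mul]
  have hcard : 2 ^ 3 ≤ Nat.card (E ⊔ F : Subgroup G) := by
    obtain ⟨hE, hF, hE4, hF4, -, hinf, hEF, -⟩ := hcs
    have hinj : Function.Injective (fun p : E × F => (⟨(p.1 : G) * p.2,
        mul_mem (mem_sup_left p.1.2) (mem_sup_right p.2.2)⟩ : (E ⊔ F : Subgroup G))) := by
      rintro ⟨x, y⟩ ⟨x', y'⟩ hxy
      have h1 : (x : G) * y = x' * y' := congrArg Subtype.val hxy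
      have h2 : (x' : G)⁻¹ * x = y' * (y : G)⁻¹ := by
        rw [inv_mul_eq_iff_eq_mul, ← mul_assoc, ← h1]; group
      have h3 : (x' : G)⁻¹ * x ∈ E ⊓ F :=
        mem_inf.2 ⟨E.mul_mem (E.inv_mem x'.2) x.2, by rw [h2]; exact F.mul_mem y'.2 (F.inv_mem y.2)⟩
      rw [hinf, mem_bot] at h3
      have h4 : (x' : G) = x := inv_mul_eq_one.1 h3
      rw [h3] at h2
      have h5 : (y' : G) = y := mul_inv_eq_one.1 h2.symm
      exact Prod.ext (Subtype.ext h4.symm) (Subtype.ext h5.symm)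
    have h1 := Nat.card_le_card_of_injective _ hinj
    rw [Nat.card_prod, hE4, hF4] at h1
    omega
  have hsolv : ∀ a ∈ E ⊔ F, a ≠ 1 → Group.IsSolvable (theta E F a) := by
    intro a ha ha1
    refine Cfsg.Agent.S0205.result ?_
    have := hp a ha ha1
    rw [← Nat.not_even_iff_odd, even_iff_two_dvd]
    exact this
  obtain ⟨h1, h2, -⟩ := Cfsg.Agent.SignalizersComponents.SolFunctorTwo.solvable_signalizer_functor_two
    (E ⊔ F) hcomm hexp hcard (theta E F) hC hp hinv hsolv hbal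
  refine ⟨?_, h2, ?_⟩
  · rw [← Nat.not_even_iff_odd, even_iff_two_dvd]
    exact h1
  · refine ClosedFour.le_normalizer_of_conj fun g hg x hx => ?_
    have h3 : Vc E F ≤ (Vc E F).comap (MulAut.conj g).toMonoidHom := by
      refine iSup_le fun a => ?_
      intro y hy
      rw [mem_comap]
      exact (le_iSup (fun a : {a : G // a ∈ E ⊔ F ∧ a ≠ 1} => theta E F a) a) (hinv a a.2.1 a.2.2 g hg y hy)
    exact h3 hx

universe u

/-- In the minimal situation the involutions of the two families commute. -/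
theorem comm_of_min (G : Type u) [Group G] [Finite G] (𝒜 ℬ : Set G) (h : Min 𝒜 ℬ) :
    ∀ a ∈ 𝒜, ∀ b ∈ ℬ, orderOf a = 2 → orderOf b = 2 → a * b = b * a := by
  classical
  obtain ⟨W, hWconj, hW⟩ := exists_functor h (complete (G := G))
  letI : MulAction G (Subgroup G) :=
    { smul := fun g K => K.map (MulAut.conj g).toMonoidHom
      one_smul := by
        intro K
        change K.map (MulAut.conj (1 : G)).toMonoidHom = K
        rw [map_one]
        exact Subgroup.map_id K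
      mul_smul := by
        intro g k K
        change K.map (MulAut.conj (g * k)).toMonoidHom =
          (K.map (MulAut.conj k).toMonoidHom).map (MulAut.conj g).toMonoidHom
        rw [Subgroup.map_map, map_mul]
        rfl }
  rcases ClosedGeometry.geometry (w := W) h (fun g a b _ _ _ _ _ => hWconj g a b)
    (fun a ha a₁ ha₁ b hb oa oa₁ ob hab hab₁ haa =>
      (hW a ha b hb oa ob hab).2.2.1 a₁ ha₁ oa₁ haa hab₁)
    (fun a ha b hb b₁ hb₁ oa ob ob₁ hab hab₁ hbb =>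
      (hW a ha b hb oa ob hab).2.2.2 b₁ hb₁ ob₁ hbb hab₁) with h1 | h1
  · exact fun a ha b hb oa ob => (h1 a ha b hb oa ob).eq
  -- the functor is constant
  have hbot : ∀ a ∈ 𝒜, ∀ b ∈ ℬ, orderOf a = 2 → orderOf b = 2 → Commute a b → W a b = ⊥ := by
    intro a ha b hb oa ob hab
    have hn : (W a b).Normal := by
      refine ⟨fun x hx g => ?_⟩
      have h2 : W (g * a * g⁻¹) (g * b * g⁻¹) = W a b := by
        refine h1 _ (h.left.conj_mem a ha g) _ (h.right.conj_mem b hb g) a ha b hb ?_ ?_ oa ob ?_ hab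
        · exact ClosedLocal.orderOf_conj oa g
        · exact ClosedLocal.orderOf_conj ob g
        · change g * a * g⁻¹ * (g * b * g⁻¹) = g * b * g⁻¹ * (g * a * g⁻¹)
          calc g * a * g⁻¹ * (g * b * g⁻¹) = g * (a * b) * g⁻¹ := by group
            _ = g * (b * a) * g⁻¹ := by rw [hab.eq]
            _ = g * b * g⁻¹ * (g * a * g⁻¹) := by group
      rw [← h2, hWconj]
      exact ⟨x, hx, rfl⟩
    have h3 : W a b ≤ Cfsg.oddCore G :=
      Cfsg.Agent.Lib.Cores.le_pPrimeCore hn (Nat.coprime_two_right.2 (hW a ha b hb oa ob hab).1)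
    rw [h.oddCore] at h3
    exact le_bot_iff.1 h3
  intro x hx y hy ox oy
  obtain ⟨x', hc, -, -, v, hv, hxv⟩ := ClosedLocal.exists_dihedral h.toPair hx hy ox oy
  have h2 := (hW x' hc.a_mem y hy hc.oa oy hc.comm).2.1 v hv
  rw [hbot x' hc.a_mem y hy hc.oa oy hc.comm, mem_bot, commutatorElement_eq_one_iff_commute] at h2
  -- `v` commutes with `y` and with `x' y`, so with `x'`
  have h3 : Commute v (x' * y) := ClosedLocal.Oc_comm hv
  have h4 : Commute v x' := by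
    have h5 : Commute v (x' * y * y⁻¹) := h3.mul_right h2.inv_right
    rwa [mul_inv_cancel_right] at h5
  have h6 : x = x' := by rw [hxv, h4.eq]; group
  rw [h6]
  exact hc.comm.eq

/-- The product theorem for closed families (commutator part). -/
theorem fam_commutator_le {G : Type u} [Group G] [Finite G] {𝒜 ℬ : Set G} (h : Pair 𝒜 ℬ) :
    ⁅fam 𝒜 ⊤, fam ℬ ⊤⁆ ≤ Cfsg.oddCore G :=
  ClosedZ.fam_commutator_le comm_of_min h

/-- **Goldschmidt's product theorem, commutator part**: disjoint strongly closed 2-subgroups have normal closures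
which commute modulo `O(G)`. -/
theorem commutator_le {G : Type u} [Group G] [Finite G] (P : Sylow 2 G) (A B : Subgroup G) (hAB : A ⊓ B = ⊥)
    (hA : Cfsg.IsStronglyClosed A (P : Subgroup G)) (hB : Cfsg.IsStronglyClosed B (P : Subgroup G)) :
    ⁅normalClosure (A : Set G), normalClosure (B : Set G)⁆ ≤ Cfsg.oddCore G :=
  ClosedZ.normalClosure_commutator_le comm_of_min P A B hAB hA hB

end Cfsg.Agent.TwoFusion.ClosedCommutator
end
end

-- part: TwoFusion/GoldWFunctor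
section
prune_inst 0x400000220000001800000000002000000000000000012000000009400040a040000000500100101084c04002800002100020002800002000800000000000040122e200741c00300000406801180c00000000000000000000000000000000000000000
set_option linter.all false
open scoped Cfsg.Agent.FastGrp

/-!
# The core-separated signalizer functor depends only on two involutions

`ClosedFunctor` proves this for the four-groups of a minimal pair of closed families; the computation only uses that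
the two four-groups are core-separated and that the functor is complete. Here it is for such four-groups, and then for
two "long" commuting groups `P, Q` all of whose pairs of four-subgroups are core-separated: `Wab x y` does not depend
on `x ∈ P#`, `y ∈ Q#`.
-/

set_option autoImplicit false
set_option linter.style.haveILetI false
set_option maxHeartbeats 400000

namespace Cfsg.Agent.TwoFusion.GoldWFunctor

open Subgroup
open scoped commutatorElement
open Cfsg.Agent.TwoFusion.ClosedFam Cfsg.Agent.TwoFusion.ClosedSimple Cfsg.Agent.TwoFusion.ClosedMin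
open Cfsg.Agent.Lib.CoprimeCommutator
open Cfsg.Agent.TwoFusion.ClosedFour Cfsg.Agent.TwoFusion.ClosedFunctor

variable {G : Type*} [Group G]

/-- Two commuting core-separated four-groups. -/
structure CS (E F : Subgroup G) : Prop where
  left : Four Set.univ E
  right : Four Set.univ F
  comm : ∀ x ∈ E, ∀ y ∈ F, x * y = y * x
  disj : E ⊓ F = ⊥
  cs : Cfsg.IsCoreSeparated E F

theorem isCoreSeparated_symm {E F : Subgroup G} (h : Cfsg.IsCoreSeparated E F) : Cfsg.IsCoreSeparated F E := by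
  obtain ⟨h1, h2, h3, h4, h5, h6, h7, h8⟩ := h
  refine ⟨h2, h1, h4, h3, Ne.symm h5, by rw [inf_comm]; exact h6, fun x hx y hy => (h7 y hy x hx).symm, ?_⟩
  intro a ha ha1 L hL
  rw [sup_comm] at ha
  exact (h8 a ha ha1 L hL).symm

namespace CS

variable {E F : Subgroup G}

theorem symm (h : CS E F) : CS F E :=
  ⟨h.right, h.left, fun x hx y hy => (h.comm y hy x hx).symm, by rw [inf_comm]; exact h.disj,
    isCoreSeparated_symm h.cs⟩

theorem fours (h : CS E F) : Fours Set.univ Set.univ E F := ⟨h.left, h.right, h.comm⟩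

theorem mul_ne_one (h : CS E F) {x y : G} (hx : x ∈ E) (hx1 : x ≠ 1) (hy : y ∈ F) : x * y ≠ 1 := by
  intro e
  apply hx1
  have h1 : x = y⁻¹ := eq_inv_of_mul_eq_one_left e
  have h2 : x ∈ E ⊓ F := ⟨hx, by rw [h1]; exact F.inv_mem hy⟩
  rw [h.disj] at h2
  exact mem_bot.1 h2

variable [Finite G] (hC : Complete G) (h : CS E F)
include hC h

omit [Finite G] in
theorem vc_odd : Odd (Nat.card (Vc E F)) := (hC E F h.cs).1

omit [Finite G] in
theorem vc_inf {a : G} (ha : a ∈ E ⊔ F) (ha1 : a ≠ 1) :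
    Vc E F ⊓ centralizer ({a} : Set G) = theta E F a := (hC E F h.cs).2.1 a ha ha1

omit [Finite G] in
theorem le_normalizer_vc : E ⊔ F ≤ normalizer (Vc E F : Set G) := (hC E F h.cs).2.2

omit [Finite G] in
theorem theta_le_vc {a : G} (ha : a ∈ E ⊔ F) (ha1 : a ≠ 1) : theta E F a ≤ Vc E F := by
  rw [← vc_inf hC h ha ha1]
  exact inf_le_left

omit [Finite G] in
theorem le_normalizer_theta {a : G} (ha : a ∈ E ⊔ F) (ha1 : a ≠ 1) :
    E ⊔ F ≤ normalizer (theta E F a : Set G) := by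
  rw [← vc_inf hC h ha ha1]
  refine le_normalizer_inf (le_normalizer_vc hC h) ?_
  refine (show E ⊔ F ≤ centralizer ({a} : Set G) from fun g hg => ?_).trans le_normalizer
  exact mem_centralizer_singleton.2 (comm_sup h.left h.right h.comm g hg a ha)

/-- `C_W(x)`, for `x ∈ E`, is `T(x; y)` for every `y ∈ F`. -/
theorem theta_eq_T {x y : G} (hx : x ∈ E) (hx1 : x ≠ 1) (hy : y ∈ F) (hy1 : y ≠ 1) :
    theta E F x = T x y := by
  have hEF := h.fours
  have hth := Fours.theta_eq hEF hx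
  have hFx : F ≤ normalizer (Oc x : Set G) := Fours.le_normalizer_Oc' fun g hg => (hEF.comm x hx g hg).symm
  have hFy : F ≤ normalizer (Oc y : Set G) := Fours.le_normalizer_Oc' fun g hg => hEF.right.comm g hg y hy
  have hle : theta E F x ≤ Oc x := by
    rw [hth]
    exact sup_le (commutator_le_left hFx) inf_le_left
  have h2 : Oc x ⊓ Oc y ≤ theta E F x := by
    rw [hth]
    refine (le_commutator_sup hEF.right.isPGroup
      (Odd.of_dvd_nat (Oc_odd x) (card_dvd_of_le inf_le_left)) (le_normalizer_inf hFx hFy)).trans ?_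
    refine sup_le_sup (commutator_mono inf_le_left le_rfl) (le_inf (inf_le_left.trans inf_le_left) ?_)
    refine le_trans ?_ (Fours.Oc_inf_centralizer_le (E := F) hy)
    exact le_inf (inf_le_left.trans inf_le_right) inf_le_right
  have hyF : zpowers y ≤ F := by rw [zpowers_le]; exact hy
  have hxs : x ∈ E ⊔ F := mem_sup_left hx
  have hys : y ∈ E ⊔ F := mem_sup_right hy
  apply le_antisymm
  · have h3 : theta E F x ⊓ centralizer ({y} : Set G) ≤ Oc x ⊓ Oc y := by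
      refine le_inf (inf_le_left.trans hle) ?_
      have h4 : theta E F x ⊓ centralizer ({y} : Set G) ≤ theta E F y := by
        rw [← vc_inf hC h hys hy1]
        exact inf_le_inf (theta_le_vc hC h hxs hx1) le_rfl
      refine h4.trans ?_
      rw [theta_comm, Fours.theta_eq hEF.symm hy]
      refine sup_le (commutator_le_left ?_) inf_le_left
      exact Fours.le_normalizer_Oc' fun g hg => hEF.comm g hg y hy
    refine (le_commutator_sup (Fours.isPGroup_zpowers_of_sq (hEF.right.sq y hy))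
      (Odd.of_dvd_nat (Oc_odd x) (card_dvd_of_le hle))
      ((hyF.trans le_sup_right).trans (le_normalizer_theta hC h hxs hx1))).trans ?_
    rw [Fours.centralizer_zpowers]
    exact sup_le_sup (commutator_mono hle le_rfl) h3
  · refine sup_le ?_ h2
    rw [hth]
    exact (commutator_mono le_rfl hyF).trans le_sup_left

theorem vc_inf_centralizer_left {x y : G} (hx : x ∈ E) (hx1 : x ≠ 1) (hy : y ∈ F) (hy1 : y ≠ 1) :
    Vc E F ⊓ centralizer ({x} : Set G) = T x y := by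
  rw [vc_inf hC h (mem_sup_left hx) hx1, theta_eq_T hC h hx hx1 hy hy1]

theorem vc_inf_centralizer_right {x y : G} (hx : x ∈ E) (hx1 : x ≠ 1) (hy : y ∈ F) (hy1 : y ≠ 1) :
    Vc E F ⊓ centralizer ({y} : Set G) = T y x := by
  rw [Vc_comm]
  exact vc_inf_centralizer_left hC h.symm hy hy1 hx hx1

omit [Finite G] in
/-- `[O_{xy}, y] ≤ W` -/
theorem commutator_le_vc {x y : G} (hx : x ∈ E) (hx1 : x ≠ 1) (hy : y ∈ F) :
    ⁅Oc (x * y), zpowers y⁆ ≤ Vc E F := by
  have hEF := h.fours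
  have hz : x * y ∈ E ⊔ F := mul_mem (mem_sup_left hx) (mem_sup_right hy)
  refine le_trans ?_ (theta_le_vc hC h hz (h.mul_ne_one hx hx1 hy))
  rw [Subgroup.commutator_le]
  intro v hv w hw
  rcases Fours.zpowers_eq_of_sq (hEF.right.sq y hy) hw with rfl | rfl
  · rw [commutatorElement_one_right]; exact one_mem _
  have hvz : v * (x * w) = (x * w) * v := mem_centralizer_singleton.1 (Oc_le _ hv)
  have hww : w * w = 1 := hEF.right.sq w hy
  have hxw : x * w = w * x := hEF.comm x hx w hy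
  have e : ⁅v, w⁆ = ⁅v, x⁆ := by
    have key : ∀ z : G, w = z * x → v * z = z * v → z * x = x * z →
        v * w * v⁻¹ * w⁻¹ = v * x * v⁻¹ * x⁻¹ := by
      intro z hz1 hz2 hz3
      have c1 : Commute z v := hz2.symm
      have c2 : Commute z x := hz3
      have c3 : Commute z (v * x * v⁻¹ * x⁻¹) :=
        ((c1.mul_right c2).mul_right c1.inv_right).mul_right c2.inv_right
      calc v * w * v⁻¹ * w⁻¹ = (v * z) * x * v⁻¹ * x⁻¹ * z⁻¹ := by rw [hz1]; group
        _ = z * (v * x * v⁻¹ * x⁻¹) * z⁻¹ := by rw [hz2]; group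
        _ = v * x * v⁻¹ * x⁻¹ := by rw [c3.eq]; group
    have hxx : x * x = 1 := hEF.left.sq x hx
    rw [commutatorElement_def, commutatorElement_def]
    refine key (x * w) ?_ hvz ?_
    · rw [hxw, mul_assoc, hxx, mul_one]
    · calc x * w * x = x * (w * x) := by group
        _ = x * (x * w) := by rw [hxw]
  refine mem_inf.2 ⟨mem_sup_left ?_, mem_sup_left ?_⟩
  · rw [e]; exact commutator_mem_commutator hv hx
  · exact commutator_mem_commutator hv hy

/-- The closure of the functor depends only on two involutions. -/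
theorem vc_eq_Wab {x y : G} (hx : x ∈ E) (hx1 : x ≠ 1) (hy : y ∈ F) (hy1 : y ≠ 1) :
    Vc E F = Wab x y := by
  have hEF := h.fours
  have hxs : x ∈ E ⊔ F := mem_sup_left hx
  have hys : y ∈ E ⊔ F := mem_sup_right hy
  have hz : x * y ∈ E ⊔ F := mul_mem hxs hys
  have hz1 := h.mul_ne_one hx hx1 hy
  have hn := le_normalizer_vc hC h
  apply le_antisymm
  · refine Cfsg.Agent.Lib.KleinGen.le_of_klein (Vc E F) _ (vc_odd hC h) x y (hEF.left.sq x hx)
      (hEF.right.sq y hy) (hEF.comm x hx y hy) (fun g hg => conj_mem_of_le_normalizer hn hxs hg)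
      (fun g hg => conj_mem_of_le_normalizer hn hys hg) ?_ ?_ ?_
    · rw [vc_inf_centralizer_left hC h hx hx1 hy hy1]
      exact le_sup_left.trans le_sup_left
    · rw [vc_inf_centralizer_right hC h hx hx1 hy hy1]
      exact le_sup_right.trans le_sup_left
    · rw [vc_inf hC h hz hz1]
      have hth : theta E F (x * y) ≤ Oc (x * y) := by
        refine inf_le_left.trans (sup_le (commutator_le_left ?_) inf_le_left)
        exact Fours.le_normalizer_Oc' fun g hg =>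
          comm_sup hEF.left hEF.right hEF.comm g (mem_sup_left hg) _ hz
      refine (le_commutator_sup (Fours.isPGroup_zpowers_of_sq (hEF.right.sq y hy))
        (Odd.of_dvd_nat (Oc_odd _) (card_dvd_of_le hth)) ?_).trans ?_
      · refine le_trans ?_ (le_normalizer_theta hC h hz hz1)
        rw [zpowers_le]; exact hys
      · refine sup_le ((commutator_mono hth le_rfl).trans le_sup_right) ?_
        rw [Fours.centralizer_zpowers]
        refine le_trans ?_ (le_sup_right.trans le_sup_left : T y x ≤ Wab x y)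
        rw [← vc_inf_centralizer_right hC h hx hx1 hy hy1]
        exact inf_le_inf (theta_le_vc hC h hz hz1) le_rfl
  · refine sup_le (sup_le ?_ ?_) (commutator_le_vc hC h hx hx1 hy)
    · rw [← vc_inf_centralizer_left hC h hx hx1 hy hy1]; exact inf_le_left
    · rw [← vc_inf_centralizer_right hC h hx hx1 hy hy1]; exact inf_le_left

end CS

/-! ### Larger groups -/

/-- a four-group containing two given involutions of an elementary abelian group of order at least 4 -/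
theorem exists_four_le [Finite G] {P : Subgroup G} (hsq : ∀ a ∈ P, a * a = 1)
    (hcomm : ∀ a ∈ P, ∀ b ∈ P, a * b = b * a) (hcard : 4 ≤ Nat.card P) {x x' : G} (hx : x ∈ P) (hx' : x' ∈ P)
    (hx1 : x ≠ 1) (hx'1 : x' ≠ 1) :
    ∃ E : Subgroup G, E ≤ P ∧ Four Set.univ E ∧ x ∈ E ∧ x' ∈ E := by
  classical
  -- an element `y ∈ P`, `y ≠ 1, x` with `x' ∈ {x, y}`
  have hex : ∃ y ∈ P, y ≠ 1 ∧ y ≠ x ∧ (x' = x ∨ x' = y) := by
    by_cases he : x' = x
    · by_contra hcon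
      push Not at hcon
      have h1 : (P : Set G) ⊆ {1, x} := by
        intro y hy
        by_contra h2
        simp only [Set.mem_insert_iff, Set.mem_singleton_iff, not_or] at h2
        exact (hcon y hy h2.1 h2.2).1 he
      have h2 : Nat.card P ≤ Nat.card ({1, x} : Set G) := Nat.card_mono (Set.toFinite _) h1
      have h3 : Nat.card ({1, x} : Set G) ≤ 2 := by
        rw [Nat.card_coe_set_eq, Set.ncard_pair (Ne.symm hx1)]
      omega
    · exact ⟨x', hx', hx'1, he, Or.inr rfl⟩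
  obtain ⟨y, hy, hy1, hyx, hxy⟩ := hex
  have hxx := hsq x hx
  have hyy := hsq y hy
  have hc := hcomm x hx y hy
  let E := WreathedFour.klein x y hxx hyy hc
  have hE : IsKleinFour E := WreathedFour.isKleinFour_klein x y hxx hyy hc hx1 hy1 (Ne.symm hyx)
  have hmem : ∀ z, z ∈ E ↔ z = 1 ∨ z = x ∨ z = y ∨ z = x * y := fun z => Iff.rfl
  have hEP : E ≤ P := by
    intro z hz
    rcases (hmem z).1 hz with rfl | rfl | rfl | rfl
    · exact one_mem P
    · exact hx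
    · exact hy
    · exact mul_mem hx hy
  have hxE : x ∈ E := (hmem x).2 (Or.inr (Or.inl rfl))
  refine ⟨E, hEP, ⟨fun a ha b hb => hcomm a (hEP ha) b (hEP hb), fun a ha => hsq a (hEP ha), hE.card_four,
    fun _ _ => Set.mem_univ _⟩, hxE, ?_⟩
  rcases hxy with rfl | rfl
  · exact hxE
  · exact (hmem _).2 (Or.inr (Or.inr (Or.inl rfl)))

/-- Two commuting elementary abelian groups of order at least 4, meeting trivially, with all pairs of four-subgroups
core-separated. -/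
structure SepPair (P Q : Subgroup G) : Prop where
  sqL : ∀ a ∈ P, a * a = 1
  sqR : ∀ a ∈ Q, a * a = 1
  commL : ∀ a ∈ P, ∀ b ∈ P, a * b = b * a
  commR : ∀ a ∈ Q, ∀ b ∈ Q, a * b = b * a
  comm : ∀ a ∈ P, ∀ b ∈ Q, a * b = b * a
  disj : P ⊓ Q = ⊥
  cardL : 4 ≤ Nat.card P
  cardR : 4 ≤ Nat.card Q
  cs : ∀ E F : Subgroup G, E ≤ P → F ≤ Q → Nat.card E = 4 → Nat.card F = 4 → Cfsg.IsCoreSeparated E F

namespace SepPair

variable {P Q : Subgroup G}

theorem symm (h : SepPair P Q) : SepPair Q P where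
  sqL := h.sqR
  sqR := h.sqL
  commL := h.commR
  commR := h.commL
  comm a ha b hb := (h.comm b hb a ha).symm
  disj := by rw [inf_comm]; exact h.disj
  cardL := h.cardR
  cardR := h.cardL
  cs E F hE hF hE4 hF4 := isCoreSeparated_symm (h.cs F E hF hE hF4 hE4)

variable [Finite G] (h : SepPair P Q)
include h

theorem exists_cs {x x' y y' : G} (hx : x ∈ P) (hx' : x' ∈ P) (hy : y ∈ Q) (hy' : y' ∈ Q) (hx1 : x ≠ 1)
    (hx'1 : x' ≠ 1) (hy1 : y ≠ 1) (hy'1 : y' ≠ 1) :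
    ∃ E F : Subgroup G, CS E F ∧ E ≤ P ∧ F ≤ Q ∧ x ∈ E ∧ x' ∈ E ∧ y ∈ F ∧ y' ∈ F := by
  obtain ⟨E, hEP, hE, hxE, hx'E⟩ := exists_four_le h.sqL h.commL h.cardL hx hx' hx1 hx'1
  obtain ⟨F, hFQ, hF, hyF, hy'F⟩ := exists_four_le h.sqR h.commR h.cardR hy hy' hy1 hy'1
  refine ⟨E, F, ⟨hE, hF, fun a ha b hb => h.comm a (hEP ha) b (hFQ hb), ?_, h.cs E F hEP hFQ hE.card hF.card⟩,
    hEP, hFQ, hxE, hx'E, hyF, hy'F⟩
  rw [eq_bot_iff, ← h.disj]
  exact inf_le_inf hEP hFQ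

variable (hC : Complete G)
include hC

/-- `Wab x y` does not depend on `x ∈ P#`, `y ∈ Q#`. -/
theorem wab_eq {x x' y y' : G} (hx : x ∈ P) (hx' : x' ∈ P) (hy : y ∈ Q) (hy' : y' ∈ Q) (hx1 : x ≠ 1)
    (hx'1 : x' ≠ 1) (hy1 : y ≠ 1) (hy'1 : y' ≠ 1) : Wab x y = Wab x' y' := by
  obtain ⟨E, F, hEF, -, -, hxE, hx'E, hyF, hy'F⟩ := h.exists_cs hx hx' hy hy' hx1 hx'1 hy1 hy'1
  rw [← CS.vc_eq_Wab hC hEF hxE hx1 hyF hy1, CS.vc_eq_Wab hC hEF hx'E hx'1 hy'F hy'1]

theorem wab_comm {x y : G} (hx : x ∈ P) (hy : y ∈ Q) (hx1 : x ≠ 1) (hy1 : y ≠ 1) : Wab x y = Wab y x := by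
  obtain ⟨E, F, hEF, -, -, hxE, -, hyF, -⟩ := h.exists_cs hx hx hy hy hx1 hx1 hy1 hy1
  rw [← CS.vc_eq_Wab hC hEF hxE hx1 hyF hy1, Vc_comm, CS.vc_eq_Wab hC hEF.symm hyF hy1 hxE hx1]

theorem wab_odd {x y : G} (hx : x ∈ P) (hy : y ∈ Q) (hx1 : x ≠ 1) (hy1 : y ≠ 1) :
    Odd (Nat.card (Wab x y)) := by
  obtain ⟨E, F, hEF, -, -, hxE, -, hyF, -⟩ := h.exists_cs hx hx hy hy hx1 hx1 hy1 hy1
  rw [← CS.vc_eq_Wab hC hEF hxE hx1 hyF hy1]
  exact CS.vc_odd hC hEF

end SepPair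

/-- if the closure is trivial, `[O_x, y] = 1` -/
theorem commutator_eq_bot {x y : G} (hW : Wab x y = ⊥) : ⁅Oc x, zpowers y⁆ = ⊥ := by
  rw [eq_bot_iff, ← hW]
  exact (le_sup_left : ⁅Oc x, zpowers y⁆ ≤ T x y).trans (le_sup_left.trans le_sup_left)

end Cfsg.Agent.TwoFusion.GoldWFunctor
end

-- part: ProdFusion/FunctorComplete
section
prune_inst 0x400000220000001800000000000000000000000000012000000000000040a000000000400100101000402002000000100020000000002000000000000000000020c200000000200000006801180c00000000000000000000000000000000000000000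
set_option linter.all false
open scoped Cfsg.Agent.FastGrp

-- part: ProdFusion/Functor
section
/-!
# Theorem PP, part [FUN]: the core-separated signalizer functor

`CS E F` (from `GoldWFunctor`): `E, F` commuting core-separated four-groups. `Complete G` is the completeness of all
functors of S1330 (a theorem: `ProdFusion.FunctorComplete.complete`). The statements below are about
`T x y = [O_x, y] (O_x ∩ O_y)` and `Wab x y = T(x;y) T(y;x) [O_{xy}, y]`, `x ∈ E#`, `y ∈ F#`.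
-/

set_option autoImplicit false
set_option linter.style.haveILetI false
set_option maxHeartbeats 400000

namespace Cfsg.Agent.ProdFusion.Functor

open Subgroup
open scoped commutatorElement
open Cfsg.Agent.TwoFusion.ClosedFam Cfsg.Agent.TwoFusion.ClosedSimple
open Cfsg.Agent.Lib.CoprimeCommutator
open Cfsg.Agent.TwoFusion.ClosedFour Cfsg.Agent.TwoFusion.ClosedFunctor
open Cfsg.Agent.TwoFusion.GoldWFunctor

variable {G : Type*} [Group G] {E F : Subgroup G}

/-- a four-group from two different commuting involutions -/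
theorem exists_four {a b : G} (ha : a * a = 1) (hb : b * b = 1) (ha1 : a ≠ 1) (hb1 : b ≠ 1) (hne : a ≠ b)
    (hab : a * b = b * a) :
    ∃ E : Subgroup G, Four Set.univ E ∧ a ∈ E ∧ b ∈ E ∧ ∀ Q : Subgroup G, a ∈ Q → b ∈ Q → E ≤ Q := by
  let E := Cfsg.Agent.TwoFusion.WreathedFour.klein a b ha hb hab
  have hE : IsKleinFour E := Cfsg.Agent.TwoFusion.WreathedFour.isKleinFour_klein a b ha hb hab ha1 hb1 hne
  have hmem : ∀ x, x ∈ E ↔ x = 1 ∨ x = a ∨ x = b ∨ x = a * b := fun x => Iff.rfl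
  have hsq : ∀ x ∈ E, x * x = 1 := by
    intro x hx
    rcases (hmem x).1 hx with rfl | rfl | rfl | rfl
    · exact one_mul 1
    · exact ha
    · exact hb
    · calc a * b * (a * b) = a * (b * a) * b := by group
        _ = (a * a) * (b * b) := by rw [← hab]; group
        _ = 1 := by rw [ha, hb, one_mul]
  refine ⟨E, ⟨?_, hsq, hE.card_four, fun _ _ => Set.mem_univ _⟩, (hmem a).2 (Or.inr (Or.inl rfl)),
    (hmem b).2 (Or.inr (Or.inr (Or.inl rfl))), ?_⟩
  · intro x hx y hy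
    have h1 : (x * y) * (x * y) = 1 := hsq _ (mul_mem hx hy)
    have hx2 : x⁻¹ = x := inv_eq_of_mul_eq_one_right (hsq x hx)
    have hy2 : y⁻¹ = y := inv_eq_of_mul_eq_one_right (hsq y hy)
    have h2 : (x * y)⁻¹ = x * y := inv_eq_of_mul_eq_one_right h1
    rw [← h2, mul_inv_rev, hx2, hy2]
  · intro Q haQ hbQ x hx
    rcases (hmem x).1 hx with rfl | rfl | rfl | rfl
    · exact one_mem Q
    · exact haQ
    · exact hbQ
    · exact mul_mem haQ hbQ

/-- constructor for `CS` -/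
theorem CS.mk' (hE : Four Set.univ E) (hF : Four Set.univ F) (hcs : Cfsg.IsCoreSeparated E F) : CS E F :=
  ⟨hE, hF, hcs.2.2.2.2.2.2.1, hcs.2.2.2.2.2.1, hcs⟩

/-- `O_x ∩ O_y ≤ T(x; y)` -/
theorem inf_le_T (x y : G) : Oc x ⊓ Oc y ≤ T x y := le_sup_right

section

variable [Finite G] (hC : Complete G) (h : CS E F)
include hC h

/-- `T(x; y) = [O_x, F] (O_x ∩ O(C(F)))` -/
theorem T_eq {x y : G} (hx : x ∈ E) (hx1 : x ≠ 1) (hy : y ∈ F) (hy1 : y ≠ 1) :
    T x y = ⁅Oc x, F⁆ ⊔ (Oc x ⊓ core (centralizer (F : Set G))) := by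
  rw [← CS.theta_eq_T hC h hx hx1 hy hy1, Fours.theta_eq h.fours hx]

/-- `T(x; y)` does not depend on `y ∈ F#`. -/
theorem T_congr {x y y' : G} (hx : x ∈ E) (hx1 : x ≠ 1) (hy : y ∈ F) (hy1 : y ≠ 1) (hy' : y' ∈ F)
    (hy'1 : y' ≠ 1) : T x y = T x y' := by
  rw [T_eq hC h hx hx1 hy hy1, T_eq hC h hx hx1 hy' hy'1]

theorem commutator_le_T {x y : G} (hx : x ∈ E) (hx1 : x ≠ 1) (hy : y ∈ F) (hy1 : y ≠ 1) :
    ⁅Oc x, F⁆ ≤ T x y := by
  rw [T_eq hC h hx hx1 hy hy1]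
  exact le_sup_left

/-- (2) -/
theorem vc_eq {x y : G} (hx : x ∈ E) (hx1 : x ≠ 1) (hy : y ∈ F) (hy1 : y ≠ 1) : Vc E F = Wab x y :=
  CS.vc_eq_Wab hC h hx hx1 hy hy1

theorem wab_odd {x y : G} (hx : x ∈ E) (hx1 : x ≠ 1) (hy : y ∈ F) (hy1 : y ≠ 1) :
    Odd (Nat.card (Wab x y)) := by
  rw [← vc_eq hC h hx hx1 hy hy1]
  exact (hC E F h.cs).1

/-- `Wab x y` does not depend on `x ∈ E#`, `y ∈ F#`. -/
theorem wab_congr {x y x' y' : G} (hx : x ∈ E) (hx1 : x ≠ 1) (hy : y ∈ F) (hy1 : y ≠ 1) (hx' : x' ∈ E)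
    (hx'1 : x' ≠ 1) (hy' : y' ∈ F) (hy'1 : y' ≠ 1) : Wab x y = Wab x' y' := by
  rw [← vc_eq hC h hx hx1 hy hy1, ← vc_eq hC h hx' hx'1 hy' hy'1]

theorem wab_comm {x y : G} (hx : x ∈ E) (hx1 : x ≠ 1) (hy : y ∈ F) (hy1 : y ≠ 1) : Wab x y = Wab y x := by
  rw [← vc_eq hC h hx hx1 hy hy1, Vc_comm, CS.vc_eq_Wab hC h.symm hy hy1 hx hx1]

/-- (3) -/
theorem wab_inf_left {x y : G} (hx : x ∈ E) (hx1 : x ≠ 1) (hy : y ∈ F) (hy1 : y ≠ 1) :
    Wab x y ⊓ centralizer ({x} : Set G) = T x y := by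
  rw [← vc_eq hC h hx hx1 hy hy1, CS.vc_inf_centralizer_left hC h hx hx1 hy hy1]

/-- (3) -/
theorem wab_inf_right {x y : G} (hx : x ∈ E) (hx1 : x ≠ 1) (hy : y ∈ F) (hy1 : y ≠ 1) :
    Wab x y ⊓ centralizer ({y} : Set G) = T y x := by
  rw [← vc_eq hC h hx hx1 hy hy1, CS.vc_inf_centralizer_right hC h hx hx1 hy hy1]

theorem le_normalizer_wab {x y : G} (hx : x ∈ E) (hx1 : x ≠ 1) (hy : y ∈ F) (hy1 : y ≠ 1) :
    E ⊔ F ≤ normalizer (Wab x y : Set G) := by
  rw [← vc_eq hC h hx hx1 hy hy1]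
  exact CS.le_normalizer_vc hC h

/-- `W(x, y)` is generated by the `T(x'; y)`, `x' ∈ E#`. -/
theorem wab_le_of_T_le {x y : G} (hx : x ∈ E) (hx1 : x ≠ 1) (hy : y ∈ F) (hy1 : y ≠ 1) {M : Subgroup G}
    (hM : ∀ x' ∈ E, x' ≠ 1 → T x' y ≤ M) : Wab x y ≤ M := by
  refine h.left.le_of_forall (wab_odd hC h hx hx1 hy hy1)
    (le_sup_left.trans (le_normalizer_wab hC h hx hx1 hy hy1)) fun x' hx' hx'1 => ?_
  rw [wab_congr hC h hx hx1 hy hy1 hx' hx'1 hy hy1, wab_inf_left hC h hx' hx'1 hy hy1]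
  exact hM x' hx' hx'1

theorem T_le_wab {x y : G} (hx : x ∈ E) (hx1 : x ≠ 1) (hy : y ∈ F) (hy1 : y ≠ 1) : T x y ≤ Wab x y := by
  rw [← wab_inf_left hC h hx hx1 hy hy1]
  exact inf_le_left

/-- (4) `T(x; y)` is normal in `O_x`. -/
theorem Oc_le_normalizer_T {x y : G} (hx : x ∈ E) (hx1 : x ≠ 1) (hy : y ∈ F) (hy1 : y ≠ 1) :
    Oc x ≤ normalizer (T x y : Set G) := by
  have hFx : F ≤ normalizer (Oc x : Set G) :=
    Fours.le_normalizer_Oc' fun g hg => (h.comm x hx g hg).symm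
  have hdec := le_commutator_sup h.right.isPGroup (Oc_odd x) hFx
  refine hdec.trans (sup_le ?_ ?_)
  · exact (commutator_le_T hC h hx hx1 hy hy1).trans le_normalizer
  · rw [T_eq hC h hx hx1 hy hy1]
    refine le_normalizer_of_conj fun g hg v hv => ?_
    have h1 : g ∈ normalizer ((⁅Oc x, F⁆ : Subgroup G) : Set G) :=
      left_le_normalizer_commutator (Oc x) F hg.1
    have h2 : g ∈ normalizer ((Oc x ⊓ core (centralizer (F : Set G)) : Subgroup G) : Set G) := by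
      refine le_normalizer_inf (H := Oc x ⊓ centralizer (F : Set G)) (inf_le_left.trans le_normalizer)
        (inf_le_right.trans (le_normalizer_core _)) hg
    have h3 : (⁅Oc x, F⁆ ⊔ (Oc x ⊓ core (centralizer (F : Set G)))).map (MulAut.conj g).toMonoidHom ≤
        ⁅Oc x, F⁆ ⊔ (Oc x ⊓ core (centralizer (F : Set G))) := by
      rw [Subgroup.map_sup]
      refine sup_le_sup ?_ ?_
      · rintro _ ⟨w, hw, rfl⟩
        exact (mem_normalizer_iff.1 h1 w).1 hw
      · rintro _ ⟨w, hw, rfl⟩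
        exact (mem_normalizer_iff.1 h2 w).1 hw
    exact h3 (mem_map_of_mem _ hv)

/-- `F` normalises `T(x; y)` (as does `E`). -/
theorem le_normalizer_T {x y : G} (hx : x ∈ E) (hx1 : x ≠ 1) (hy : y ∈ F) (hy1 : y ≠ 1) :
    E ⊔ F ≤ normalizer (T x y : Set G) := by
  rw [← CS.theta_eq_T hC h hx hx1 hy hy1]
  exact CS.le_normalizer_theta hC h (mem_sup_left hx) hx1

/-- (6) comparison of `T(x; y₁)` with `T(x; y)`. -/
theorem T_le_T {x y y₁ : G} (hx : x ∈ E) (hx1 : x ≠ 1) (hy : y ∈ F) (hy1 : y ≠ 1) (hxy₁ : y₁ * x = x * y₁)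
    (hFy₁ : ∀ f ∈ F, f * y₁ = y₁ * f) (hsq : y₁ * y₁ = 1)
    (h1 : ∀ f ∈ F, f ≠ 1 → ∀ v ∈ Oc x, v * f = f * v → ⁅v, y₁⁆ ∈ Oc f)
    (h2 : ∀ f ∈ F, f ≠ 1 → ∀ v ∈ Oc x, v ∈ Oc y₁ → v * f = f * v → v ∈ Oc f) : T x y₁ ≤ T x y := by
  have hFx : F ≤ normalizer (Oc x : Set G) :=
    Fours.le_normalizer_Oc' fun g hg => (h.comm x hx g hg).symm
  have hFy : F ≤ normalizer (Oc y₁ : Set G) := Fours.le_normalizer_Oc' hFy₁
  have hN := Oc_le_normalizer_T hC h hx hx1 hy hy1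
  have hy₁x : y₁ ∈ normalizer (Oc x : Set G) := le_normalizer_Oc x (mem_centralizer_singleton.2 hxy₁)
  have hconj : ∀ v ∈ Oc x, ⁅v, y₁⁆ ∈ Oc x := by
    intro v hv
    have e : ⁅v, y₁⁆ = v * (y₁ * v⁻¹ * y₁⁻¹) := by rw [commutatorElement_def]; group
    rw [e]
    exact mul_mem hv ((mem_normalizer_iff.1 hy₁x _).1 (inv_mem hv))
  -- the subgroup of the `v ∈ O_x` with `[v, y₁] ∈ T(x; y)`
  let M : Subgroup G :=
    { carrier := {v | v ∈ Oc x ∧ ⁅v, y₁⁆ ∈ T x y}
      one_mem' := ⟨one_mem _, by rw [commutatorElement_one_left]; exact one_mem _⟩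
      mul_mem' := by
        rintro v w ⟨hv, hv'⟩ ⟨hw, hw'⟩
        refine ⟨mul_mem hv hw, ?_⟩
        have e : ⁅v * w, y₁⁆ = (v * ⁅w, y₁⁆ * v⁻¹) * ⁅v, y₁⁆ := by
          simp only [commutatorElement_def]; group
        rw [e]
        exact mul_mem ((mem_normalizer_iff.1 (hN hv) _).1 hw') hv'
      inv_mem' := by
        rintro v ⟨hv, hv'⟩
        refine ⟨inv_mem hv, ?_⟩
        have e : ⁅v⁻¹, y₁⁆ = v⁻¹ * ⁅v, y₁⁆⁻¹ * v⁻¹⁻¹ := by
          simp only [commutatorElement_def]; group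
        rw [e]
        exact (mem_normalizer_iff.1 (hN (inv_mem hv)) _).1 (inv_mem hv') }
  have hTf : ∀ f ∈ F, f ≠ 1 → Oc x ⊓ Oc f ≤ T x y := fun f hf hf1 => by
    rw [T_congr hC h hx hx1 hy hy1 hf hf1]
    exact inf_le_T x f
  have hM : Oc x ≤ M := by
    refine h.right.le_of_forall (Oc_odd x) hFx fun f hf hf1 v hv => ?_
    refine ⟨hv.1, hTf f hf hf1 ⟨hconj v hv.1, h1 f hf hf1 v hv.1 ?_⟩⟩
    exact mem_centralizer_singleton.1 hv.2
  refine sup_le ?_ ?_
  · rw [Subgroup.commutator_le]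
    intro v hv w hw
    rcases Fours.zpowers_eq_of_sq hsq hw with rfl | rfl
    · rw [commutatorElement_one_right]; exact one_mem _
    · exact (hM hv).2
  · refine h.right.le_of_forall (Odd.of_dvd_nat (Oc_odd x) (card_dvd_of_le inf_le_left))
      (le_normalizer_inf hFx hFy) fun f hf hf1 v hv => ?_
    exact hTf f hf hf1 ⟨hv.1.1, h2 f hf hf1 v hv.1.1 hv.1.2 (mem_centralizer_singleton.1 hv.2)⟩

end

/-- If `W(x, y) = 1` then `y` centralises `O_x` and `O_x ∩ O_y = 1`. -/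
theorem of_wab_eq_bot {x y : G} (hW : Wab x y = ⊥) :
    (∀ v ∈ Oc x, v * y = y * v) ∧ Oc x ⊓ Oc y = ⊥ := by
  have hT : T x y ≤ ⊥ := by
    rw [← hW]
    exact le_sup_left.trans le_sup_left
  constructor
  · intro v hv
    have h1 : ⁅v, y⁆ ∈ T x y := mem_sup_left (commutator_mem_commutator hv (mem_zpowers y))
    have h2 : ⁅v, y⁆ = 1 := mem_bot.1 (hT h1)
    exact commutatorElement_eq_one_iff_mul_comm.1 h2
  · exact le_bot_iff.1 ((inf_le_T x y).trans hT)

end Cfsg.Agent.ProdFusion.Functor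
end

-- part: ProdFusion/FunctorComplete
section
/-!
# Completeness of the core-separated signalizer functors

`complete : Complete G`: every functor of S1330 is complete, from S1330, the odd order theorem (S0205) and the solvable
signalizer functor theorem for the prime 2 (`SolFunctorTwo.solvable_signalizer_functor_two`).
-/

set_option autoImplicit false
set_option linter.style.haveILetI false
set_option maxHeartbeats 400000

namespace Cfsg.Agent.ProdFusion.FunctorComplete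

open Subgroup
open Cfsg.Agent.TwoFusion.ClosedFunctor

theorem complete {G : Type*} [Group G] [Finite G] : Complete G := by
  classical
  haveI : Fact (Nat.Prime 2) := ⟨Nat.prime_two⟩
  intro E F hcs
  obtain ⟨hC, hp, hinv, hbal⟩ := Cfsg.Agent.S1330.result E F hcs
  have hcomm : ∀ a ∈ E ⊔ F, ∀ b ∈ E ⊔ F, a * b = b * a := by
    obtain ⟨hE, hF, -, -, -, -, hEF, -⟩ := hcs
    have hEc : ∀ x ∈ E, ∀ y ∈ E, x * y = y * x := fun x hx y hy =>
      congrArg Subtype.val (hE.1.is_comm.comm (⟨x, hx⟩ : E) ⟨y, hy⟩)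
    have hFc : ∀ x ∈ F, ∀ y ∈ F, x * y = y * x := fun x hx y hy =>
      congrArg Subtype.val (hF.1.is_comm.comm (⟨x, hx⟩ : F) ⟨y, hy⟩)
    intro a ha b hb
    obtain ⟨x, hx, y, hy, rfl⟩ := (mem_sup_of_comm hEF).1 ha
    obtain ⟨x', hx', y', hy', rfl⟩ := (mem_sup_of_comm hEF).1 hb
    have e1 := hEF x' hx' y hy
    have e2 := hEF x hx y' hy'
    have e3 := hEc x hx x' hx'
    have e4 := hFc y hy y' hy'
    calc x * y * (x' * y') = x * (y * x') * y' := by group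
      _ = (x * x') * (y * y') := by rw [← e1]; group
      _ = (x' * x) * (y' * y) := by rw [e3, e4]
      _ = x' * (x * y') * y := by group
      _ = x' * y' * (x * y) := by rw [e2]; group
  have hexp : ∀ a ∈ E ⊔ F, a ^ 2 = 1 := by
    obtain ⟨hE, hF, -, -, -, -, hEF, -⟩ := hcs
    intro a ha
    obtain ⟨x, hx, y, hy, rfl⟩ := (mem_sup_of_comm hEF).1 ha
    have c : Commute x y := hEF x hx y hy
    rw [c.mul_pow, hE.2 x hx, hF.2 y hy, one_mul]
  have hcard : 2 ^ 3 ≤ Nat.card (E ⊔ F : Subgroup G) := by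
    obtain ⟨hE, hF, hE4, hF4, -, hinf, hEF, -⟩ := hcs
    have hinj : Function.Injective (fun p : E × F => (⟨(p.1 : G) * p.2,
        mul_mem (mem_sup_left p.1.2) (mem_sup_right p.2.2)⟩ : (E ⊔ F : Subgroup G))) := by
      rintro ⟨x, y⟩ ⟨x', y'⟩ hxy
      have h1 : (x : G) * y = x' * y' := congrArg Subtype.val hxy
      have h2 : (x' : G)⁻¹ * x = y' * (y : G)⁻¹ := by
        rw [inv_mul_eq_iff_eq_mul, ← mul_assoc, ← h1]; group
      have h3 : (x' : G)⁻¹ * x ∈ E ⊓ F :=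
        mem_inf.2 ⟨E.mul_mem (E.inv_mem x'.2) x.2, by rw [h2]; exact F.mul_mem y'.2 (F.inv_mem y.2)⟩
      rw [hinf, mem_bot] at h3
      have h4 : (x' : G) = x := inv_mul_eq_one.1 h3
      rw [h3] at h2
      have h5 : (y' : G) = y := mul_inv_eq_one.1 h2.symm
      exact Prod.ext (Subtype.ext h4.symm) (Subtype.ext h5.symm)
    have h1 := Nat.card_le_card_of_injective _ hinj
    rw [Nat.card_prod, hE4, hF4] at h1
    omega
  have hsolv : ∀ a ∈ E ⊔ F, a ≠ 1 → Group.IsSolvable (theta E F a) := by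
    intro a ha ha1
    refine Cfsg.Agent.S0205.result ?_
    have := hp a ha ha1
    rw [← Nat.not_even_iff_odd, even_iff_two_dvd]
    exact this
  obtain ⟨h1, h2, -⟩ := Cfsg.Agent.SignalizersComponents.SolFunctorTwo.solvable_signalizer_functor_two (E ⊔ F)
    hcomm hexp hcard (theta E F) hC hp hinv hsolv hbal
  refine ⟨?_, h2, ?_⟩
  · rw [← Nat.not_even_iff_odd, even_iff_two_dvd]
    exact h1
  · refine Cfsg.Agent.TwoFusion.ClosedFour.le_normalizer_of_conj fun g hg x hx => ?_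
    have h3 : Vc E F ≤ (Vc E F).comap (MulAut.conj g).toMonoidHom := by
      refine iSup_le fun a => ?_
      intro y hy
      rw [mem_comap]
      exact (le_iSup (fun a : {a : G // a ∈ E ⊔ F ∧ a ≠ 1} => theta E F a) a) (hinv a a.2.1 a.2.2 g hg y hy)
    exact h3 hx

end Cfsg.Agent.ProdFusion.FunctorComplete
end
end

-- part: StdAlt/CommHalf
section
set_option linter.all false
open scoped Cfsg.Agent.FastGrp

/-!
# The commutator half of Goldschmidt's product theorem for groups without odd normal subgroups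
-/

set_option autoImplicit false

namespace Cfsg.Agent.StdAlt.CommHalf

open Cfsg.Agent.StdAlt.First

/-- the commutator half of Goldschmidt's product theorem -/
theorem commHalf_of_oddCore {G : Type*} [Group G] [Finite G] (hO : Cfsg.oddCore G = ⊥) :
    CommHalf G := by
  intro P S₁ S₂ _ hdisj h₁ h₂
  rw [eq_bot_iff, ← hO]
  exact Cfsg.Agent.TwoFusion.ClosedCommutator.commutator_le P S₁ S₂ hdisj h₁ h₂

end Cfsg.Agent.StdAlt.CommHalf
end
end
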